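import Mathlib
import Cfsg.Agent.Lib.CharTheory.DihedralPrincipal.Setting
import Cfsg.Agent.BlockCharsA.BrauerPairs

/-!
# A stable linear character of the centralizer of an involution: the family of its conjugates

One class of involutions and a linear character `θ` of `C(t)`, trivial on the Sylow subgroup and
compatible with the fusion of commuting involutions: every commuting pair (involution, element)
receives a value, and every nontrivial `2`-subgroup a linear character of its centralizer.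
-/

set_option autoImplicit false
set_option linter.style.haveILetI false
set_option linter.unusedSectionVars false

namespace Cfsg.Agent.GW.StableLinear

open Cfsg.Agent.CharTheory.DihedralPrincipal
open scoped Classical

universe u

variable {G : Type u} [Group G]

/-- A linear character of the centralizer of `t`, extended by `1`. -/
noncomputable def ext {t : G} (θ : Subgroup.centralizer ({t} : Set G) →* ℂˣ) (x : G) : ℂˣ :=
  if h : x ∈ Subgroup.centralizer ({t} : Set G) then θ ⟨x, h⟩ else 1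

theorem ext_of_mem {t : G} (θ : Subgroup.centralizer ({t} : Set G) →* ℂˣ) {x : G}
    (h : x ∈ Subgroup.centralizer ({t} : Set G)) : ext θ x = θ ⟨x, h⟩ :=
  dif_pos h

/-- An element moving `z` to `t`. -/
noncomputable def toT (t z : G) : G :=
  if h : ∃ g : G, g * z * g⁻¹ = t then h.choose else 1

/-- The value of `θ` at `c`, transported from `z`. -/
noncomputable def tval {t : G} (θ : Subgroup.centralizer ({t} : Set G) →* ℂˣ) (z c : G) : ℂˣ :=
  ext θ (toT t z * c * (toT t z)⁻¹)

theorem mem_cent {t x : G} : x ∈ Subgroup.centralizer ({t} : Set G) ↔ Commute x t :=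
  ⟨Subgroup.mem_centralizer_singleton_iff.1, fun h => Subgroup.mem_centralizer_singleton_iff.2 h⟩

theorem commute_conj {a b : G} (h : Commute a b) (x : G) :
    Commute (x * a * x⁻¹) (x * b * x⁻¹) := by
  simpa using h.map (MulAut.conj x).toMonoidHom

theorem conj_mem {t z g c : G} (hg : g * z * g⁻¹ = t) (hc : Commute c z) :
    g * c * g⁻¹ ∈ Subgroup.centralizer ({t} : Set G) :=
  mem_cent.2 (hg ▸ commute_conj hc g)

variable [Finite G]

/-- A stable linear character of the centralizer of the central involution. -/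
structure Stable (P : Sylow 2 G) (σ τ : G) (m : ℕ)
    (θ : Subgroup.centralizer ({σ ^ m} : Set G) →* ℂˣ) : Prop where
  dih : DihSylow P σ τ m
  one_class : ∀ u v : G, orderOf u = 2 → orderOf v = 2 → IsConj u v
  triv : ∀ x ∈ (P : Subgroup G), ext θ x = 1
  stable : ∀ u : G, orderOf u = 2 → Commute u (σ ^ m) → ∀ c : G, Commute c (σ ^ m) →
    Commute c u → ∀ h : G, h * u * h⁻¹ = σ ^ m → ext θ (h * c * h⁻¹) = ext θ c

namespace Stable

variable {P : Sylow 2 G} {σ τ : G} {m : ℕ} {θ : Subgroup.centralizer ({σ ^ m} : Set G) →* ℂˣ}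
  (hS : Stable P σ τ m θ)
include hS

theorem order_t : orderOf (σ ^ m) = 2 := hS.dih.orderOf_J

theorem toT_spec {z : G} (hz : orderOf z = 2) : toT (σ ^ m) z * z * (toT (σ ^ m) z)⁻¹ = σ ^ m := by
  have h : ∃ g : G, g * z * g⁻¹ = σ ^ m := isConj_iff.1 (hS.one_class z _ hz hS.order_t)
  rw [toT, dif_pos h]
  exact h.choose_spec

/-- The transported values of two commuting involutions agree. -/
theorem consistency {z z' c g g' : G} (hz' : orderOf z' = 2) (hzz : Commute z z')
    (hcz : Commute c z) (hcz' : Commute c z') (hg : g * z * g⁻¹ = σ ^ m)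
    (hg' : g' * z' * g'⁻¹ = σ ^ m) : ext θ (g * c * g⁻¹) = ext θ (g' * c * g'⁻¹) := by
  have h := hS.stable (g * z' * g⁻¹)
    (by rw [BlockCharsA.RegularPart.orderOf_conj', hz'])
    (hg ▸ commute_conj hzz.symm g)
    (g * c * g⁻¹) (hg ▸ commute_conj hcz g)
    (hcz'.map (MulAut.conj g).toMonoidHom) (g' * g⁻¹) (by rw [← hg']; group)
  rw [← h]
  congr 1
  group

theorem tval_eq {z c g : G} (hz : orderOf z = 2) (hc : Commute c z) (hg : g * z * g⁻¹ = σ ^ m) :
    tval θ z c = ext θ (g * c * g⁻¹) :=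
  hS.consistency hz (Commute.refl z) hc hc (hS.toT_spec hz) hg

theorem tval_congr {z z' c : G} (hz : orderOf z = 2) (hz' : orderOf z' = 2) (hzz : Commute z z')
    (hcz : Commute c z) (hcz' : Commute c z') : tval θ z c = tval θ z' c :=
  hS.consistency hz' hzz hcz hcz' (hS.toT_spec hz) (hS.toT_spec hz')

theorem tval_self {c : G} (hc : Commute c (σ ^ m)) : tval θ (σ ^ m) c = ext θ c := by
  rw [hS.tval_eq hS.order_t hc (g := 1) (by group)]
  congr 1
  group

theorem tval_mul {z c d : G} (hz : orderOf z = 2) (hc : Commute c z) (hd : Commute d z) :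
    tval θ z (c * d) = tval θ z c * tval θ z d := by
  have hg := hS.toT_spec hz
  simp only [tval]
  rw [ext_of_mem θ (conj_mem hg (hc.mul_left hd)), ext_of_mem θ (conj_mem hg hc),
    ext_of_mem θ (conj_mem hg hd), ← map_mul]
  exact congrArg θ (Subtype.ext (by simp [mul_assoc]))

theorem tval_one {z : G} (hz : orderOf z = 2) : tval θ z 1 = 1 := by
  have h := hS.tval_mul hz (Commute.one_left z) (Commute.one_left z)
  rw [one_mul] at h
  exact left_eq_mul.1 h

theorem tval_conj {z c : G} (x : G) (hz : orderOf z = 2) (hc : Commute c z) :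
    tval θ (x * z * x⁻¹) (x * c * x⁻¹) = tval θ z c := by
  have hg := hS.toT_spec hz
  rw [hS.tval_eq (by rw [BlockCharsA.RegularPart.orderOf_conj', hz])
    (commute_conj hc x) (g := toT (σ ^ m) z * x⁻¹)
    (by conv_rhs => rw [← hg]
        group)]
  simp only [tval]
  congr 1
  group

/-- The `2`-elements of the centralizer lie in the kernel. -/
theorem apply_two {c : Subgroup.centralizer ({σ ^ m} : Set G)} (hc : ∃ k : ℕ, orderOf c = 2 ^ k) :
    θ c = 1 := by
  haveI : Fact (Nat.Prime 2) := ⟨Nat.prime_two⟩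
  obtain ⟨Q, hQ⟩ := (Blocks.zpowers_isPGroup hc).exists_le_sylow
  set S : Sylow 2 (Subgroup.centralizer ({σ ^ m} : Set G)) := P.subtype hS.dih.sylow_le
  obtain ⟨e, he⟩ := MulAction.exists_smul_eq (Subgroup.centralizer ({σ ^ m} : Set G)) Q S
  have hmem : e * c * e⁻¹ ∈ S := by
    rw [← he, ← SetLike.mem_coe, Sylow.coe_smul]
    exact ⟨c, hQ (Subgroup.mem_zpowers c), rfl⟩
  have h1 := hS.triv _ (show ((e * c * e⁻¹ : Subgroup.centralizer ({σ ^ m} : Set G)) : G) ∈
    (P : Subgroup G) from hmem)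
  rw [ext_of_mem θ (e * c * e⁻¹).2, Subtype.coe_eta, map_mul, map_mul, map_inv,
    mul_right_comm, mul_inv_cancel, one_mul] at h1
  exact h1

theorem tval_two {z c : G} (hz : orderOf z = 2) (hc : Commute c z)
    (h2 : ∃ k : ℕ, orderOf c = 2 ^ k) : tval θ z c = 1 := by
  simp only [tval]
  rw [ext_of_mem θ (conj_mem (hS.toT_spec hz) hc)]
  refine hS.apply_two ?_
  rw [Subgroup.orderOf_mk, BlockCharsA.RegularPart.orderOf_conj']
  exact h2

end Stable

/-- A central involution of a subgroup. -/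
def HasCentralInv (R : Subgroup G) (z : G) : Prop :=
  z ∈ R ∧ orderOf z = 2 ∧ ∀ r ∈ R, Commute z r

theorem exists_centralInv {R : Subgroup G} (hR : IsPGroup 2 R) (h1 : R ≠ ⊥) :
    ∃ z, HasCentralInv R z := by
  haveI : Fact (Nat.Prime 2) := ⟨Nat.prime_two⟩
  haveI : Nontrivial R := (Subgroup.nontrivial_iff_ne_bot R).2 h1
  haveI := hR.center_nontrivial
  obtain ⟨k, hk⟩ := IsPGroup.iff_card.1 (hR.to_subgroup (Subgroup.center R))
  have h2 : 2 ∣ Nat.card (Subgroup.center R) := by
    rw [hk]
    refine dvd_pow_self 2 fun h0 => ?_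
    rw [h0, pow_zero, Nat.card_eq_one_iff_unique] at hk
    exact (not_subsingleton (Subgroup.center R)) hk.1
  obtain ⟨z, hz⟩ := exists_prime_orderOf_dvd_card' 2 h2
  refine ⟨((z : R) : G), (z : R).2, by rw [Subgroup.orderOf_coe, Subgroup.orderOf_coe, hz],
    fun r hr => ?_⟩
  exact congrArg Subtype.val (Subgroup.mem_center_iff.1 z.2 ⟨r, hr⟩).symm

theorem ne_bot_of_mem {R : Subgroup G} {z : G} (hz : z ∈ R) (h2 : orderOf z = 2) : R ≠ ⊥ :=
  fun e => by
    rw [e, Subgroup.mem_bot] at hz
    rw [hz, orderOf_one] at h2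
    omega

variable {P : Sylow 2 G} {σ τ : G} {m : ℕ} {θ : Subgroup.centralizer ({σ ^ m} : Set G) →* ℂˣ}

/-- The linear character of the centralizer of a nontrivial `2`-subgroup. -/
noncomputable def lam (hS : Stable P σ τ m θ) (R : Subgroup G) :
    Subgroup.centralizer (R : Set G) →* ℂˣ :=
  if h : ∃ z, HasCentralInv R z then
    MonoidHom.mk' (fun c => tval θ h.choose (c : G)) fun a b =>
      hS.tval_mul h.choose_spec.2.1
        (Subgroup.mem_centralizer_iff.1 a.2 _ h.choose_spec.1).symm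
        (Subgroup.mem_centralizer_iff.1 b.2 _ h.choose_spec.1).symm
  else 1

theorem lam_eq (hS : Stable P σ τ m θ) {R : Subgroup G} (hR : IsPGroup 2 R) {z : G} (hz : z ∈ R)
    (h2 : orderOf z = 2) (c : Subgroup.centralizer (R : Set G)) :
    lam hS R c = tval θ z (c : G) := by
  have h := exists_centralInv hR (ne_bot_of_mem hz h2)
  obtain ⟨hm, ho, hc⟩ := h.choose_spec
  rw [lam, dif_pos h]
  exact hS.tval_congr ho h2 (hc z hz)
    (Subgroup.mem_centralizer_iff.1 c.2 _ hm).symm (Subgroup.mem_centralizer_iff.1 c.2 _ hz).symm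

theorem lam_restrict (hS : Stable P σ τ m θ) {Q R : Subgroup G} (hR : IsPGroup 2 R) (hQR : Q ≤ R)
    (hQ : Q ≠ ⊥) (x : Subgroup.centralizer (R : Set G)) :
    lam hS Q ⟨x, BlockCharsA.BrauerPairs.centralizer_le_centralizer hQR x.2⟩ = lam hS R x := by
  obtain ⟨z, hz, h2, -⟩ := exists_centralInv (hR.to_le hQR) hQ
  rw [lam_eq hS (hR.to_le hQR) hz h2, lam_eq hS hR (hQR hz) h2]

theorem lam_conj (hS : Stable P σ τ m θ) {Q Q' : Subgroup G} (hQ : IsPGroup 2 Q) (hQ1 : Q ≠ ⊥)
    (hQ' : IsPGroup 2 Q') (x : G) (hx : ∀ q ∈ Q, x * q * x⁻¹ ∈ Q')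
    (c : Subgroup.centralizer (Q : Set G)) (c' : Subgroup.centralizer (Q' : Set G))
    (hc : (c' : G) = x * c * x⁻¹) : lam hS Q' c' = lam hS Q c := by
  obtain ⟨z, hz, h2, -⟩ := exists_centralInv hQ hQ1
  rw [lam_eq hS hQ hz h2, lam_eq hS hQ' (hx z hz)
    (by rw [BlockCharsA.RegularPart.orderOf_conj', h2]), hc]
  exact hS.tval_conj x h2 (Subgroup.mem_centralizer_iff.1 c.2 _ hz).symm

/-- The involution of the cyclic group of an element of even order. -/
noncomputable def invOf (g : G) : G := g ^ (orderOf g / 2)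

theorem orderOf_invOf {g : G} (hg : 2 ∣ orderOf g) : orderOf (invOf g) = 2 := by
  have hpos := orderOf_pos g
  obtain ⟨k, hk⟩ := hg
  rw [invOf, hk, Nat.mul_div_cancel_left k two_pos,
    orderOf_pow_of_dvd (by omega) (hk ▸ dvd_mul_left k 2), hk]
  exact Nat.mul_div_cancel _ (by omega)

/-- The twisting class function. -/
noncomputable def tw (θ : Subgroup.centralizer ({σ ^ m} : Set G) →* ℂˣ) (g : G) : ℂ :=
  if 2 ∣ orderOf g then (tval θ (invOf g) g : ℂ) else 1

theorem tw_conj (hS : Stable P σ τ m θ) (g x : G) : tw θ (x * g * x⁻¹) = tw θ g := by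
  simp only [tw, BlockCharsA.RegularPart.orderOf_conj']
  split_ifs with h
  · congr 1
    have e : invOf (x * g * x⁻¹) = x * invOf g * x⁻¹ := by
      rw [invOf, invOf, BlockCharsA.RegularPart.orderOf_conj', conj_pow]
    rw [e]
    exact hS.tval_conj x (orderOf_invOf h) (Commute.self_pow g _)
  · rfl

theorem tw_of_commute (hS : Stable P σ τ m θ) {g z : G} (hg : 2 ∣ orderOf g) (hz : orderOf z = 2)
    (hc : Commute g z) : tw θ g = (tval θ z g : ℂ) := by
  rw [tw, if_pos hg, hS.tval_congr (orderOf_invOf hg) hz (hc.pow_left _) (Commute.self_pow g _).symm.symm hc]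

end Cfsg.Agent.GW.StableLinear
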