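import Mathlib
import Cfsg.Agent.Lib.GW.StableLinear.Family
import Cfsg.Agent.Lib.CharTheory.DihedralPrincipal.OrderFormula
import Cfsg.Agent.Lib.GW.SeparationBase
import Cfsg.Agent.Lib.Blocks.Star.Parts

/-!
# The block of a stable linear character

The pairs of the linear characters of the centralizers are nested below the one of the Sylow
subgroup and are all the pairs of its block; its members take the twisted value on the sections.
-/

set_option autoImplicit false
set_option linter.style.haveILetI false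
set_option linter.unusedSectionVars false

namespace Cfsg.Agent.GW.StableLinear

open Cfsg.Agent.Blocks Cfsg.Agent.Characters Cfsg.Agent.GW.LinearTwist
open Cfsg.Agent.BlockCharsA.BrauerPairs Cfsg.Agent.BlockCharsA.PairConj
open Cfsg.Agent.Blocks.Star Cfsg.Agent.CharTheory.DihedralPrincipal
open scoped ComplexConjugate Classical

universe u

variable {G : Type u} [Group G] [Fintype G] {P : Sylow 2 G} {σ τ : G} {m : ℕ}
  {θ : Subgroup.centralizer ({σ ^ m} : Set G) →* ℂˣ}

/-- The elements of odd order of the centralizer of the central involution. -/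
noncomputable def regKer (h : DihSylow P σ τ m) :
    Subgroup (Subgroup.centralizer ({σ ^ m} : Set G)) :=
  h.exists_retract.choose.ker

instance (h : DihSylow P σ τ m) : (regKer h).Normal := MonoidHom.normal_ker _

theorem mem_regKer (h : DihSylow P σ τ m) {c : Subgroup.centralizer ({σ ^ m} : Set G)} :
    c ∈ regKer h ↔ ¬ 2 ∣ orderOf c :=
  h.exists_retract.choose_spec.2 c

theorem odd_of_forall_regular {H : Type*} [Group H] [Finite H] {N : Subgroup H}
    (hN : ∀ c ∈ N, ¬ 2 ∣ orderOf c) : ¬ 2 ∣ Nat.card N := fun hd => by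
  haveI := Fact.mk Nat.prime_two
  obtain ⟨y, hy⟩ := exists_prime_orderOf_dvd_card' 2 hd
  exact hN y y.2 (by rw [Subgroup.orderOf_coe, hy])

theorem odd_regKer (h : DihSylow P σ τ m) : Odd (Nat.card (regKer h)) := by
  rw [← Nat.not_even_iff_odd, even_iff_two_dvd]
  exact odd_of_forall_regular fun c hc => (mem_regKer h).1 hc

variable {M : Ideal Cfsg.AlgInt}

/-- The block of the linear character of a subgroup. -/
noncomputable def blkLam (hS : Stable P σ τ m θ) (M : Ideal Cfsg.AlgInt) (Q : Subgroup G) :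
    Set (Cfsg.IrrCharacter (Subgroup.centralizer (Q : Set G))) :=
  Cfsg.blockOf M ((lin (lam hS Q) : Cfsg.IrrCharacter _) : _ → ℂ)

theorem normalStep (hM : Cfsg.IsPModular 2 M) (hS : Stable P σ τ m θ) {Q R : Subgroup G}
    (hR : IsPGroup 2 R) (hQR : Q ≤ R) (hRN : R ≤ Subgroup.normalizer (Q : Set G)) (hQ : Q ≠ ⊥) :
    Cfsg.IsNormalSubpair 2 M Q (blkLam hS M Q) R (blkLam hS M R) :=
  normalSubpair_lin hM hR hQR hRN (lam hS Q) (lam hS R)
    (fun x => lam_restrict hS hR hQR hQ x) fun r hr c c' hc =>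
      lam_conj hS (hR.to_le hQR) hQ (hR.to_le hQR) r
        (fun q hq => (Subgroup.mem_normalizer_iff.1 (hRN hr) q).1 hq) c c' hc

theorem subpairLE_lam (hM : Cfsg.IsPModular 2 M) (hS : Stable P σ τ m θ) :
    ∀ (n : ℕ) (Q R : Subgroup G), Nat.card R - Nat.card Q = n → IsPGroup 2 R → Q ≤ R → Q ≠ ⊥ →
      Cfsg.SubpairLE 2 M Q (blkLam hS M Q) R (blkLam hS M R) := by
  intro n
  induction n using Nat.strong_induction_on with
  | _ n ih =>
    intro Q R hn hR hQR hQ
    rcases eq_or_ne Q R with rfl | hne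
    · exact Relation.ReflTransGen.refl
    · have hlt := lt_inf_normalizer hM hR hQR hne
      set R' := R ⊓ Subgroup.normalizer (Q : Set G)
      have hc : Nat.card Q < Nat.card R' := lt_of_not_ge fun hle =>
        hlt.ne (eq_of_le_of_card_le hlt.le hle)
      have hc' : Nat.card R' ≤ Nat.card R := Subgroup.card_le_of_le inf_le_left
      have h1 := ih (Nat.card R - Nat.card R') (by omega) R' R rfl hR inf_le_left
        (fun e => hQ (le_bot_iff.1 (e ▸ hlt.le)))
      exact Relation.ReflTransGen.head (a := (⟨Q, blkLam hS M Q⟩ : Cfsg.BrauerPairIdx G))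
        (b := ⟨R', blkLam hS M R'⟩) (normalStep hM hS (hR.to_le inf_le_left) hlt.le inf_le_right hQ)
        h1

/-- The block of `G` with the pair of the Sylow subgroup. -/
theorem exists_theBlock (hM : Cfsg.IsPModular 2 M) (hS : Stable P σ τ m θ) :
    ∃ B : Set (Cfsg.IrrCharacter G),
      Cfsg.IsMaximalBrauerPair 2 M B (P : Subgroup G) (blkLam hS M (P : Subgroup G)) := by
  have hpair : Cfsg.IsBrauerPair 2 M (P : Subgroup G) (blkLam hS M (P : Subgroup G)) :=
    ⟨P.2, isPBlock_blockOf M _⟩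
  obtain ⟨B, hB⟩ := exists_brauerPairOf hM hpair
  exact ⟨B, hB, fun _ _ hR hl => P.3 hR.1.1 (subpairLE_facts hM hl).1⟩

variable {B : Set (Cfsg.IrrCharacter G)}

theorem isPairOf_lam (hM : Cfsg.IsPModular 2 M) (hS : Stable P σ τ m θ)
    (hB : Cfsg.IsMaximalBrauerPair 2 M B (P : Subgroup G) (blkLam hS M (P : Subgroup G)))
    {Q : Subgroup G} (hQ : Q ≤ (P : Subgroup G)) (hQ1 : Q ≠ ⊥) :
    Cfsg.IsBrauerPairOf 2 M B Q (blkLam hS M Q) :=
  (block_of_subpairLE hM (subpairLE_lam hM hS _ Q (P : Subgroup G) rfl P.2 hQ hQ1)).2 hB.1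

/-- The pairs of the block are the pairs of the linear characters. -/
theorem eq_lam (hM : Cfsg.IsPModular 2 M) (hS : Stable P σ τ m θ)
    (hB : Cfsg.IsMaximalBrauerPair 2 M B (P : Subgroup G) (blkLam hS M (P : Subgroup G)))
    {Q : Subgroup G} (hQ1 : Q ≠ ⊥)
    {f : Set (Cfsg.IrrCharacter (Subgroup.centralizer (Q : Set G)))}
    (hf : Cfsg.IsBrauerPairOf 2 M B Q f) : f = blkLam hS M Q := by
  obtain ⟨x, hx⟩ := exists_conj_le hM hB hf
  have hle : cj Q x ≤ (P : Subgroup G) := (subpairLE_facts hM hx).1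
  have hQp : IsPGroup 2 Q := hf.1.1
  have hcb : cj Q x ≠ ⊥ := fun e => hQ1 ((Subgroup.eq_bot_iff_forall _).2 fun q hq => by
    have : x * q * x⁻¹ ∈ cj Q x := conj_mem_cj.2 hq
    rw [e, Subgroup.mem_bot] at this
    exact conj_eq_one_iff.1 this)
  have h1 : cjPair x (⟨Q, f⟩ : Cfsg.BrauerPairIdx G) = ⟨cj Q x, blkLam hS M (cj Q x)⟩ :=
    Separation.pair_unique hM rfl hB.1.1 hx
      (subpairLE_lam hM hS _ (cj Q x) (P : Subgroup G) rfl P.2 hle hcb)
  have h2 : cjPair x (⟨Q, blkLam hS M Q⟩ : Cfsg.BrauerPairIdx G) =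
      ⟨cj Q x, blkLam hS M (cj Q x)⟩ := by
    simp only [blkLam, Separation.cjPair_lin hM]
    refine Separation.pair_congr M rfl _ _ fun g hg hg' => ?_
    show lam hS Q ((centConj Q x).symm ⟨g, hg⟩) = lam hS (cj Q x) ⟨g, hg'⟩
    refine (lam_conj hS hQp hQ1 (P.2.to_le hle) x (fun q hq => conj_mem_cj.2 hq) _ _ ?_).symm
    show g = _
    rw [← coe_centConj, MulEquiv.apply_symm_apply]
  have h3 := congrArg (cjPair x⁻¹) (h1.trans h2.symm)
  rw [cjPair_mul, cjPair_mul, inv_mul_cancel, cjPair_one, cjPair_one] at h3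
  simpa using h3

variable [Fintype (Cfsg.IrrCharacter G)]

theorem lam_zpowers (hS : Stable P σ τ m θ) {v : G} (hv : v ∈ Subgroup.zpowers σ) (hv1 : v ≠ 1)
    (c : CU v) : lam hS (Subgroup.zpowers v) c = ext θ (c : G) := by
  obtain ⟨-, h2⟩ := hS.dih.pow_half hv hv1
  have hz : σ ^ m ∈ Subgroup.zpowers v := h2 ▸ Subgroup.pow_mem _ (Subgroup.mem_zpowers v) _
  rw [lam_eq hS (zpowers_isPGroup (hS.dih.rot_pElement hv)) hz hS.order_t]
  exact hS.tval_self (Subgroup.mem_centralizer_iff.1 c.2 _ hz).symm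

theorem exists_regNormal (hS : Stable P σ τ m θ) {v : G} (hv : v ∈ Subgroup.zpowers σ)
    (hv1 : v ≠ 1) : ∃ N : Subgroup (CU v), N.Normal ∧ ∀ c, c ∈ N ↔ ¬ 2 ∣ orderOf c := by
  have hle : CU v ≤ Subgroup.centralizer ({σ ^ m} : Set G) := fun c hc =>
    DihSylow.centralizer_le (σ := σ) (hS.dih.pow_half hv hv1).2 (mem_centralizer_zpowers.1 hc)
  refine ⟨(hS.dih.exists_retract.choose.comp (Subgroup.inclusion hle)).ker,
    MonoidHom.normal_ker _, fun c => ?_⟩
  rw [MonoidHom.mem_ker]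
  refine (hS.dih.exists_retract.choose_spec.2 _).trans ?_
  rw [orderOf_injective _ (Subgroup.inclusion_injective hle)]

/-- The values of the block on the sections of the rotations. -/
theorem value_rot (hM : Cfsg.IsPModular 2 M) (hS : Stable P σ τ m θ)
    (hB : Cfsg.IsMaximalBrauerPair 2 M B (P : Subgroup G) (blkLam hS M (P : Subgroup G)))
    {χ : Cfsg.IrrCharacter G} (hχ : χ ∈ B) {v : G} (hv : v ∈ Subgroup.zpowers σ) (hv1 : v ≠ 1)
    {s : G} (hc : Commute v s) (hs : ¬ 2 ∣ orderOf s) :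
    (χ : G → ℂ) (v * s) = (ext θ s : ℂ) * (χ : G → ℂ) v := by
  obtain ⟨N, hN, hNmem⟩ := exists_regNormal hS hv hv1
  haveI := hN
  haveI := Fintype.ofFinite (Cfsg.IrrCharacter (CU v))
  haveI : Fintype {g : Set (Cfsg.IrrCharacter (CU v)) // Cfsg.IsPBlock M g} := Fintype.ofFinite _
  have hpw := hS.dih.rot_pElement hv
  have hQ1 : Subgroup.zpowers v ≠ ⊥ := fun e =>
    hv1 (Subgroup.mem_bot.1 (e ▸ Subgroup.mem_zpowers v))
  have hodd : ¬ 2 ∣ Nat.card N := odd_of_forall_regular fun c hc => (hNmem c).1 hc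
  set b := blkLam hS M (Subgroup.zpowers v)
  set F := shiftCU (χ : G → ℂ) v
  set a : ℂ := ∑ ξ ∈ Finset.univ.filter (fun ξ => ξ ∈ b),
    Cfsg.classInner F (ξ : CU v → ℂ) * (ξ : CU v → ℂ) 1 with ha
  have key : ∀ r : G, r ∈ regAt 2 v → (χ : G → ℂ) (v * r) = (ext θ r : ℂ) * a := by
    intro r hr
    obtain ⟨hr1, hr2⟩ := mem_regAt.1 hr
    rw [eq_sum_th hM (χ : G → ℂ) v, sum_BI_eq v, Finset.sum_eq_single_of_mem
      (⟨b, isPBlock_blockOf M _⟩ : {g : Set (Cfsg.IrrCharacter (CU v)) // Cfsg.IsPBlock M g})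
      (Finset.mem_univ _) fun g _ hne => ?_]
    · rw [show r = ((⟨r, mem_CU_of_commute hr1⟩ : CU v) : G) from rfl,
        th_eq (irr_isClassFunction χ), blockPart_eq_expand, ha, Finset.mul_sum]
      refine Finset.sum_congr rfl fun ξ hξ => ?_
      rw [apply_of_mem_lin hM _ (Finset.mem_filter.1 hξ).2 hodd
        ((hNmem _).2 (by rwa [Subgroup.orderOf_mk])), lam_zpowers hS hv hv1]
      ring
    · refine th_eq_zero hM hB.1.2.1 hχ hpw g.2 (fun hp => hne (Subtype.ext ?_)) hr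
      exact eq_lam hM hS hB hQ1 hp
  have h1 := key 1 (mem_regAt.2 ⟨Commute.one_right v, by simp⟩)
  rw [mul_one, ext_of_mem θ (one_mem _),
    show (⟨1, one_mem _⟩ : Subgroup.centralizer ({σ ^ m} : Set G)) = 1 from rfl, map_one,
    Units.val_one, one_mul] at h1
  rw [key s (mem_regAt.2 ⟨hc, hs⟩), h1]

/-- The values of the block at the products of a `2`-element of the Sylow subgroup. -/
theorem value_sylow (hM : Cfsg.IsPModular 2 M) (hS : Stable P σ τ m θ)
    (hB : Cfsg.IsMaximalBrauerPair 2 M B (P : Subgroup G) (blkLam hS M (P : Subgroup G)))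
    {χ : Cfsg.IrrCharacter G} (hχ : χ ∈ B) {v : G} (hv : v ∈ (P : Subgroup G)) (hv1 : v ≠ 1)
    {s : G} (hc : Commute v s) (hct : Commute s (σ ^ m)) (hs : ¬ 2 ∣ orderOf s) :
    (χ : G → ℂ) (v * s) = (ext θ s : ℂ) * (χ : G → ℂ) v := by
  by_cases hrot : v ∈ Subgroup.zpowers σ
  · exact value_rot hM hS hB hχ hrot hv1 hc hs
  obtain ⟨i, hi | hi⟩ := hS.dih.cases v hv
  · exact absurd (DihSylow.mem_of_pow i hi) hrot
  have ho : orderOf v = 2 := hi ▸ hS.dih.orderOf_refl i
  obtain ⟨g, hg⟩ := isConj_iff.1 (hS.one_class v _ ho hS.order_t)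
  have hs' : ¬ 2 ∣ orderOf (g * s * g⁻¹) := by rwa [BlockCharsA.RegularPart.orderOf_conj']
  have hc' : Commute (σ ^ m) (g * s * g⁻¹) := hg ▸ commute_conj hc g
  have e : ext θ (g * s * g⁻¹) = ext θ s := by
    rw [← hS.tval_eq ho hc.symm hg, hS.tval_congr ho hS.order_t (hS.dih.commute_J hv) hc.symm hct,
      hS.tval_self hct]
  rw [← irr_isClassFunction χ (v * s) g, ← irr_isClassFunction χ v g,
    show g * (v * s) * g⁻¹ = g * v * g⁻¹ * (g * s * g⁻¹) by group, hg,
    value_rot hM hS hB hχ (pow_mem (Subgroup.mem_zpowers σ) m) hS.dih.J_ne_one hc' hs', e]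

/-- A character with a nonzero coefficient at `θ` lies in the block. -/
theorem mem_of_coef_ne_zero (hM : Cfsg.IsPModular 2 M) (hS : Stable P σ τ m θ)
    (hB : Cfsg.IsMaximalBrauerPair 2 M B (P : Subgroup G) (blkLam hS M (P : Subgroup G)))
    {χ : Cfsg.IrrCharacter G}
    (hne : BlockIdentity.coef (regKer hS.dih) (χ : G → ℂ)
      (fun x : Subgroup.centralizer ({σ ^ m} : Set G) => (θ x : ℂ)) ≠ 0) :
    χ ∈ B := by
  haveI := Fintype.ofFinite (Cfsg.IrrCharacter (CU (σ ^ m)))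
  set b := blkLam hS M (Subgroup.zpowers (σ ^ m))
  have hJ : σ ^ m ∈ Subgroup.zpowers σ := pow_mem (Subgroup.mem_zpowers σ) m
  have hJ1 := hS.dih.J_ne_one
  have hQ1 : Subgroup.zpowers (σ ^ m) ≠ ⊥ := fun e =>
    hJ1 (Subgroup.mem_bot.1 (e ▸ Subgroup.mem_zpowers _))
  have hpair := isPairOf_lam hM hS hB (Subgroup.zpowers_le.2 (pow_mem hS.dih.σ_mem m)) hQ1
  suffices hp : Cfsg.IsBrauerPairOf 2 M (Cfsg.blockOf M (χ : G → ℂ))
      (Subgroup.zpowers (σ ^ m)) b by
    rw [brauerPairOf_unique hM hpair hp]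
    exact mem_blockOf_self hM χ
  by_contra hn
  refine hne ?_
  set F := shiftCU (χ : G → ℂ) (σ ^ m)
  have hcc : ∀ c : CU (σ ^ m), ¬ 2 ∣ orderOf c → ((c : G)) ∈ regAt 2 (σ ^ m) := fun c hc =>
    mem_regAt.2 ⟨commute_of_mem_CU c.2, by rwa [Subgroup.orderOf_coe]⟩
  have hzero : ∀ c : CU (σ ^ m), ¬ 2 ∣ orderOf c → Cfsg.blockPart b F c = 0 := fun c hc => by
    rw [← th_eq (irr_isClassFunction χ)]
    exact th_eq_zero hM (isPBlock_blockOf M _) (mem_blockOf_self hM χ) ⟨1, by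
      rw [hS.order_t, pow_one]⟩ (isPBlock_blockOf M _) hn (hcc c hc)
  have hF : ∀ x, F x = ∑ ξ : Cfsg.IrrCharacter (CU (σ ^ m)),
      Cfsg.classInner F (ξ : CU (σ ^ m) → ℂ) * (ξ : CU (σ ^ m) → ℂ) x := fun x => by
    have := congrFun (classFun_eq_sum (isClassFunction_shiftCU (irr_isClassFunction χ) (σ ^ m))) x
    simpa using this
  -- the regular sum against the linear character
  have hreg : regSum 2 F ((lin (lam hS (Subgroup.zpowers (σ ^ m))) :
      Cfsg.IrrCharacter _) : _ → ℂ) = 0 := by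
    have h1 : regSum 2 (Cfsg.blockPart b F) ((lin (lam hS (Subgroup.zpowers (σ ^ m))) :
        Cfsg.IrrCharacter _) : _ → ℂ) = 0 := by
      rw [regSum_eq_sum]
      refine Finset.sum_eq_zero fun c _ => ?_
      by_cases hc : ¬ 2 ∣ orderOf c
      · rw [if_pos hc, hzero c hc, zero_mul]
      · rw [if_neg hc]
    rw [← h1]
    simp only [regSum_eq_sum, blockPart_eq_expand, ← Finset.sum_filter, Finset.sum_mul]
    simp only [hF, Finset.sum_mul]
    rw [Finset.sum_comm, Finset.sum_comm (t := Finset.univ.filter (fun ξ => ξ ∈ b))]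
    refine (Finset.sum_subset (Finset.subset_univ _) fun ξ _ hξ => ?_).symm
    have h0 := regSum_eq_zero hM (intEl_blockIdem hM (isPBlock_blockOf M (lin (lam hS
      (Subgroup.zpowers (σ ^ m)))))) (mem_blockOf_self hM _) (ψ := ξ)
      (fun h => hξ (Finset.mem_filter.2 ⟨Finset.mem_univ _, h⟩))
    rw [regSum_eq_sum, ← Finset.sum_filter] at h0
    simp only [mul_assoc, ← Finset.mul_sum, h0, mul_zero]
  rw [BlockIdentity.coef, classInner_def, mul_eq_zero]
  right
  rw [regSum_eq_sum, ← Finset.sum_filter] at hreg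
  rw [← hreg]
  have hmemCU : ∀ y : regKer hS.dih, ((y : Subgroup.centralizer ({σ ^ m} : Set G)) : G) ∈
      CU (σ ^ m) := fun y => mem_centralizer_zpowers.2 y.1.2
  refine Finset.sum_bij (fun y _ => (⟨_, hmemCU y⟩ : CU (σ ^ m))) (fun y _ => ?_)
    (fun a _ c _ e => Subtype.ext (Subtype.ext (congrArg Subtype.val e :))) (fun c hc => ?_)
    (fun y _ => ?_)
  · refine Finset.mem_filter.2 ⟨Finset.mem_univ _, ?_⟩
    rw [Subgroup.orderOf_mk, Subgroup.orderOf_coe]
    exact (mem_regKer hS.dih).1 y.2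
  · refine ⟨⟨⟨(c : G), mem_centralizer_zpowers.1 c.2⟩, (mem_regKer hS.dih).2 ?_⟩,
      Finset.mem_univ _, rfl⟩
    rw [Subgroup.orderOf_mk, Subgroup.orderOf_coe]
    exact (Finset.mem_filter.1 hc).2
  · rw [lin_apply, lam_zpowers hS hJ hJ1, ext_of_mem θ y.1.2]
    rfl

end Cfsg.Agent.GW.StableLinear
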