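import Mathlib
import Cfsg.Agent.Lib.GW.StableLinear.Block
import Cfsg.Agent.Lib.CharTheory.DihedralPrincipal.OrderFormula

/-!
# The involutions of the centralizer outside its centre
-/

set_option autoImplicit false
set_option linter.style.haveILetI false
set_option linter.unusedSectionVars false

namespace Cfsg.Agent.GW.StableLinear

open Cfsg.Agent.CharTheory.DihedralPrincipal
open scoped Classical

universe u

variable {G : Type u} [Group G] [Fintype G] [Fintype (Cfsg.IrrCharacter G)]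
  {P : Sylow 2 G} {σ τ : G} {m : ℕ}

/-- The sum of the reciprocals of the orders of the centralizers in the odd part. -/
noncomputable def invSum (h : DihSylow P σ τ m) : ℝ :=
  ∑ w : Subgroup.centralizer ({σ ^ m} : Set G), if orderOf w = 2 ∧ (w : G) ≠ σ ^ m then
    1 / (Nat.card (regKer h ⊓ Subgroup.centralizer ({w} : Set _) :
      Subgroup (Subgroup.centralizer ({σ ^ m} : Set G))) : ℝ) else 0

theorem four_mul_le (h : DihSylow P σ τ m) {w : Subgroup.centralizer ({σ ^ m} : Set G)}
    (hw : orderOf w = 2)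
    (hne : ((h.exists_retract.choose w : (P : Subgroup G)) : G) ≠ σ ^ m) :
    4 * Nat.card (regKer h ⊓ Subgroup.centralizer ({w} : Set _) :
      Subgroup (Subgroup.centralizer ({σ ^ m} : Set G))) ≤
      Nat.card (Subgroup.centralizer ({w} : Set (Subgroup.centralizer ({σ ^ m} : Set G)))) := by
  set π := h.exists_retract.choose
  obtain ⟨hπ, hker⟩ := h.exists_retract.choose_spec
  set K := Subgroup.centralizer ({w} : Set (Subgroup.centralizer ({σ ^ m} : Set G)))
  set ρ : K →* (P : Subgroup G) := π.comp K.subtype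
  set J : Subgroup.centralizer ({σ ^ m} : Set G) :=
    ⟨σ ^ m, h.sylow_le (pow_mem h.σ_mem m)⟩
  have hJK : J ∈ K := Subgroup.mem_centralizer_singleton_iff.2
    (Subtype.ext (Subgroup.mem_centralizer_singleton_iff.1 w.2).symm)
  have hwK : w ∈ K := Subgroup.mem_centralizer_singleton_iff.2 rfl
  have hw1 : π w ≠ 1 := fun e => (hker w).1 e (by rw [hw])
  have hJ : π J = ⟨σ ^ m, pow_mem h.σ_mem m⟩ := hπ J (pow_mem h.σ_mem m)
  have hJ1 : π J ≠ 1 := by rw [hJ]; exact fun e => h.J_ne_one (congrArg Subtype.val e)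
  have hwJ : π w ≠ π J := fun e => hne (by rw [e, hJ])
  have hJJ : π J * π J = 1 := by rw [hJ]; exact Subtype.ext h.J_sq
  let S : Finset (P : Subgroup G) := {1, π J, π w, π J * π w}
  have hS : S.card = 4 := by
    have h1 : π J * π w ≠ 1 := fun e => hwJ (by
      calc π w = π J * (π J * π w) := by rw [← mul_assoc, hJJ, one_mul]
        _ = π J := by rw [e, mul_one])
    have h2 : π J * π w ≠ π J := fun e => hw1 (mul_eq_left.1 e)
    have h3 : π J * π w ≠ π w := fun e => hJ1 (mul_eq_right.1 e)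
    simp [S, hJ1.symm, hw1.symm, h1.symm, hwJ.symm, h2.symm, h3.symm]
  have hrange : 4 ≤ Nat.card ρ.range := by
    rw [← hS, ← Nat.card_eq_finsetCard]
    refine Nat.card_le_card_of_injective (fun z => (⟨z.1, ?_⟩ : ρ.range))
      fun a b e => Subtype.ext (congrArg Subtype.val e :)
    rcases z with ⟨z, hz⟩
    simp only [S, Finset.mem_insert, Finset.mem_singleton] at hz
    rcases hz with rfl | rfl | rfl | rfl
    · exact one_mem _
    · exact ⟨⟨J, hJK⟩, rfl⟩
    · exact ⟨⟨w, hwK⟩, rfl⟩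
    · exact ⟨⟨J * w, mul_mem hJK hwK⟩, by simp [ρ]⟩
  rw [← ρ.ker.card_mul_index, Subgroup.index_ker, mul_comm 4]
  refine Nat.mul_le_mul (le_of_eq ?_) hrange
  refine Nat.card_congr
    { toFun := fun c => ⟨⟨c.1, (Subgroup.mem_inf.1 c.2).2⟩, (Subgroup.mem_inf.1 c.2).1⟩
      invFun := fun c => ⟨c.1.1, Subgroup.mem_inf.2 ⟨c.2, c.1.2⟩⟩
      left_inv := fun c => rfl
      right_inv := fun c => rfl }

theorem card_centralizer_pair (h : DihSylow P σ τ m) {w : G} (hw : w ∈ (P : Subgroup G)) :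
    Nat.card (Subgroup.centralizer ({σ ^ m, w} : Set G)) =
      Nat.card (Subgroup.centralizer ({(⟨w, h.sylow_le hw⟩ :
        Subgroup.centralizer ({σ ^ m} : Set G))} : Set _)) := by
  have hle : Subgroup.centralizer ({σ ^ m, w} : Set G) ≤ Subgroup.centralizer ({σ ^ m} : Set G) :=
    Subgroup.centralizer_le (Set.singleton_subset_iff.2 (Set.mem_insert _ _))
  rw [← Nat.card_congr (Subgroup.subgroupOfEquivOfLe hle).toEquiv]
  congr 2
  ext a
  simp only [Subgroup.mem_subgroupOf, Subgroup.mem_centralizer_iff, Set.mem_insert_iff,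
    Set.mem_singleton_iff, forall_eq_or_imp, forall_eq]
  constructor
  · intro h'; exact Subtype.ext h'.2
  · intro h'
    exact ⟨(Subgroup.mem_centralizer_singleton_iff.1 a.2).symm, congrArg Subtype.val h'⟩

/-- The class of a reflection contributes at least `4 n ^ 2 / c`. -/
theorem class_bound (h : DihSylow P σ τ m) {v : G} (hv : v ∈ (P : Subgroup G)) (hv2 : orderOf v = 2)
    (hvJ : v ≠ σ ^ m) :
    4 * ((Nat.card (Subgroup.centralizer ({σ ^ m} : Set G)) : ℝ) /
        (Nat.card (Subgroup.centralizer ({σ ^ m, v} : Set G)) : ℝ)) ^ 2 ≤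
      (Nat.card (Subgroup.centralizer ({σ ^ m} : Set G)) : ℝ) *
        ∑ w ∈ Finset.univ.filter (fun w : Subgroup.centralizer ({σ ^ m} : Set G) =>
          IsConj (⟨v, h.sylow_le hv⟩ : Subgroup.centralizer ({σ ^ m} : Set G)) w),
          if orderOf w = 2 ∧ (w : G) ≠ σ ^ m then
            1 / (Nat.card (regKer h ⊓ Subgroup.centralizer ({w} : Set _) :
              Subgroup (Subgroup.centralizer ({σ ^ m} : Set G))) : ℝ) else 0 := by
  set C := Subgroup.centralizer ({σ ^ m} : Set G)
  obtain ⟨hπ, -⟩ := h.exists_retract.choose_spec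
  set π := h.exists_retract.choose
  set v' : C := ⟨v, h.sylow_le hv⟩
  set K := Finset.univ.filter (fun w : C => IsConj v' w)
  set d := Nat.card (Subgroup.centralizer ({v'} : Set C))
  have hKd : K.card * d = Nat.card C := by
    rw [← Characters.card_carrier_mul_card_centralizer v', Nat.card_eq_fintype_card (α := (ConjClasses.mk v').carrier),
      ← Set.toFinset_card]
    congr 2
    ext z
    simp only [K, Finset.mem_filter, Finset.mem_univ, true_and, Set.mem_toFinset,
      ConjClasses.mem_carrier_iff_mk_eq, ConjClasses.mk_eq_mk_iff_isConj]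
    exact ⟨fun e => e.symm, fun e => e.symm⟩
  have hd0 : (0 : ℝ) < d := Nat.cast_pos.2 Nat.card_pos
  have hterm : ∀ w ∈ K, (4 : ℝ) / d ≤ if orderOf w = 2 ∧ (w : G) ≠ σ ^ m then
      1 / (Nat.card (regKer h ⊓ Subgroup.centralizer ({w} : Set _) : Subgroup C) : ℝ) else 0 := by
    intro w hw
    obtain ⟨e, he⟩ := isConj_iff.1 (Finset.mem_filter.1 hw).2
    have hw2 : orderOf w = 2 := by
      rw [← he, BlockCharsA.RegularPart.orderOf_conj', Subgroup.orderOf_mk, hv2]
    have hπv : π v' = ⟨v, hv⟩ := hπ v' hv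
    have hne : ((π w : (P : Subgroup G)) : G) ≠ σ ^ m := fun e' => hvJ (by
      rw [← he, map_mul, map_mul, map_inv, hπv] at e'
      simp only [Subgroup.coe_mul, Subgroup.coe_inv] at e'
      set y := ((π e : (P : Subgroup G)) : G) with hy
      calc v = y⁻¹ * (y * v * y⁻¹) * y := by group
        _ = y⁻¹ * (σ ^ m * y) := by rw [e']; group
        _ = σ ^ m := by rw [← (h.commute_J (π e).2).eq, inv_mul_cancel_left])
    have hwJ : (w : G) ≠ σ ^ m := fun e' => hne (by
      have := hπ w (by rw [e']; exact pow_mem h.σ_mem m)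
      rw [this]
      exact e')
    rw [if_pos ⟨hw2, hwJ⟩]
    have hd : Nat.card (Subgroup.centralizer ({w} : Set C)) = d := by
      have hzero : K.card ≠ 0 := Finset.card_ne_zero.2 ⟨w, hw⟩
      have h1 := Characters.card_carrier_mul_card_centralizer w
      rw [← Characters.card_carrier_mul_card_centralizer v',
        show ConjClasses.mk w = ConjClasses.mk v' from
          ConjClasses.mk_eq_mk_iff_isConj.2 (Finset.mem_filter.1 hw).2.symm] at h1
      exact Nat.eq_of_mul_eq_mul_left (Nat.card_pos_iff.2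
        ⟨⟨⟨v', ConjClasses.mem_carrier_mk⟩⟩, inferInstance⟩) h1
    have h4 := four_mul_le h hw2 hne
    rw [hd] at h4
    rw [div_le_div_iff₀ hd0 (Nat.cast_pos.2 Nat.card_pos), one_mul]
    exact_mod_cast h4
  have hsum : (K.card : ℝ) * (4 / d) ≤ ∑ w ∈ K, if orderOf w = 2 ∧ (w : G) ≠ σ ^ m then
      1 / (Nat.card (regKer h ⊓ Subgroup.centralizer ({w} : Set _) : Subgroup C) : ℝ) else 0 := by
    rw [← nsmul_eq_mul, ← Finset.sum_const]
    exact Finset.sum_le_sum hterm
  refine le_of_eq_of_le ?_ (mul_le_mul_of_nonneg_left hsum (Nat.cast_nonneg _))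
  rw [card_centralizer_pair h hv, ← hKd]
  change 4 * (((K.card * d : ℕ) : ℝ) / (d : ℝ)) ^ 2 = _
  push_cast
  field_simp

/-- Twice the square of the number of reflections. -/
theorem invSum_ge (h : DihSylow P σ τ m) :
    2 * ((Nat.card (Subgroup.centralizer ({σ ^ m} : Set G)) : ℝ) /
          (Nat.card (Subgroup.centralizer ({σ ^ m, τ} : Set G)) : ℝ) +
        (Nat.card (Subgroup.centralizer ({σ ^ m} : Set G)) : ℝ) /
          (Nat.card (Subgroup.centralizer ({σ ^ m, σ * τ} : Set G)) : ℝ)) ^ 2 ≤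
      (Nat.card (Subgroup.centralizer ({σ ^ m} : Set G)) : ℝ) * invSum h := by
  unfold invSum
  set C := Subgroup.centralizer ({σ ^ m} : Set G) with hC
  obtain ⟨hπ, -⟩ := h.exists_retract.choose_spec
  set π : C →* (P : Subgroup G) := h.exists_retract.choose with hπdef
  have hτ2 : orderOf τ = 2 := by
    have := h.orderOf_refl 0; rwa [pow_zero, one_mul] at this
  have hστ : σ * τ ∈ (P : Subgroup G) := mul_mem h.σ_mem h.τ_mem
  have hστ2 : orderOf (σ * τ) = 2 := by
    have := h.orderOf_refl 1; rwa [pow_one] at this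
  have hτJ : τ ≠ σ ^ m := fun e => h.τ_notMem (e ▸ pow_mem (Subgroup.mem_zpowers σ) m)
  have hστJ : σ * τ ≠ σ ^ m := fun e => by
    have := h.refl_ne 1
    rw [pow_one, e] at this
    exact this (pow_mem (Subgroup.mem_zpowers σ) m)
  have hb0 := class_bound h h.τ_mem hτ2 hτJ
  have hb1 := class_bound h hστ hστ2 hστJ
  have hdisj : Disjoint
      (Finset.univ.filter (fun w : C => IsConj (⟨τ, h.sylow_le h.τ_mem⟩ : C) w))
      (Finset.univ.filter (fun w : C => IsConj (⟨σ * τ, h.sylow_le hστ⟩ : C) w)) := by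
    rw [Finset.disjoint_left]
    intro w hw hw'
    obtain ⟨e, he⟩ := isConj_iff.1 ((Finset.mem_filter.1 hw).2.trans (Finset.mem_filter.1 hw').2.symm)
    have h1 := congrArg (fun z => ((π z : (P : Subgroup G)) : G)) he
    have hπτ : π (⟨τ, h.sylow_le h.τ_mem⟩ : C) = ⟨τ, h.τ_mem⟩ := hπ _ h.τ_mem
    have hπστ : π (⟨σ * τ, h.sylow_le hστ⟩ : C) = ⟨σ * τ, hστ⟩ := hπ _ hστ
    simp only [map_mul, map_inv, Subgroup.coe_mul, Subgroup.coe_inv, hπτ, hπστ] at h1
    obtain ⟨j, hj⟩ := h.conj_refl_any (π e).2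
    rw [hj] at h1
    have h2 : σ ^ (2 * j) = σ ^ 1 := by rw [pow_one]; exact mul_right_cancel h1
    rw [pow_eq_pow_iff_modEq, h.order_σ] at h2
    have h3 := h2.of_mul_right m
    rw [Nat.ModEq] at h3
    omega
  have hle := Finset.sum_le_sum_of_subset_of_nonneg
    (f := fun w : C => if orderOf w = 2 ∧ (w : G) ≠ σ ^ m then
      1 / (Nat.card (regKer h ⊓ Subgroup.centralizer ({w} : Set _) : Subgroup C) : ℝ) else 0)
    (Finset.subset_univ ((Finset.univ.filter (fun w : C => IsConj (⟨τ, h.sylow_le h.τ_mem⟩ : C) w)) ∪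
      (Finset.univ.filter (fun w : C => IsConj (⟨σ * τ, h.sylow_le hστ⟩ : C) w))))
    (fun w _ _ => by split_ifs <;> positivity)
  rw [Finset.sum_union hdisj] at hle
  have h3 := mul_le_mul_of_nonneg_left hle (Nat.cast_nonneg (α := ℝ) (Nat.card C))
  rw [mul_add] at h3
  nlinarith [hb0, hb1, h3,
    sq_nonneg ((Nat.card C : ℝ) / (Nat.card (Subgroup.centralizer ({σ ^ m, τ} : Set G)) : ℝ) -
      (Nat.card C : ℝ) / (Nat.card (Subgroup.centralizer ({σ ^ m, σ * τ} : Set G)) : ℝ))]

end Cfsg.Agent.GW.StableLinear
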