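import Mathlib
import Cfsg.Agent.Lib.Characters.Kernel

/-!
# Multiplicities of a character constant on the nontrivial sections of a `2`-group

If `χ (a * v) = ν a * χ v` for `a` in a group `A` centralizing `T` and `v ∈ T` nontrivial, every
constituent of the restriction to `A` other than `ν` has multiplicity divisible by `|T|`.
-/

set_option autoImplicit false
set_option linter.style.haveILetI false
set_option linter.unusedSectionVars false

namespace Cfsg.Agent.GW.StableLinear

open Cfsg.Agent.Characters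
open scoped ComplexConjugate Classical

universe u

variable {G : Type u} [Group G] [Finite G]

theorem mult_bound (T A : Subgroup G) (hcomm : ∀ a ∈ A, ∀ v ∈ T, Commute a v) {χ : G → ℂ}
    (hχ : Cfsg.IsCharacter G χ) (ν : A →* ℂˣ) [Fintype T]
    (hval : ∀ a : A, ∀ v ∈ T, v ≠ 1 → χ ((a : G) * v) = (ν a : ℂ) * χ v)
    (hne : ∃ a : A, χ a ≠ (ν a : ℂ) * χ 1) (η : T →* ℂˣ) {z : ℤ}
    (hz : ∑ v ∈ (Finset.univ : Finset T).erase 1, χ v * conj (η v : ℂ) = (z : ℂ)) {d : ℕ}
    (hd : χ 1 = d) : (Nat.card T : ℤ) ≤ d ∧ (Nat.card T : ℤ) - z ≤ d := by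
  haveI := Fintype.ofFinite A
  haveI := Fintype.ofFinite (Cfsg.IrrCharacter A)
  let f : A × T →* G := MonoidHom.mk' (fun w => (w.1 : G) * (w.2 : G)) fun a b => by
    show ((a.1 : G) * b.1) * ((a.2 : G) * b.2) = (a.1 : G) * a.2 * ((b.1 : G) * b.2)
    rw [mul_assoc, ← mul_assoc (b.1 : G), (hcomm b.1 b.1.2 a.2 a.2.2).eq]
    group
  have hA : Cfsg.IsCharacter A (fun a : A => χ a) := isCharacter_restrict A hχ
  have hn : ∀ μ : Cfsg.IrrCharacter A, ∃ n : ℕ,
      Cfsg.classInner (fun a : A => χ a) (μ : A → ℂ) = (n : ℂ) := fun μ =>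
    classInner_char_nat hA (irr_isCharacter μ)
  choose n hn using hn
  set l : Cfsg.IrrCharacter A := ⟨fun a => (ν a : ℂ), isIrrCharacter_linear ν⟩ with hl
  have hexp : ∀ a : A, χ a = ∑ μ : Cfsg.IrrCharacter A, (n μ : ℂ) * (μ : A → ℂ) a := fun a => by
    have := congrFun (classFun_eq_sum (char_isClassFunction hA)) a
    simpa [hn] using this
  have hN : ∀ μ : Cfsg.IrrCharacter A, ∃ N : ℕ,
      (Nat.card T : ℂ) * (N : ℂ) = (n μ : ℂ) + if l = μ then (z : ℂ) else 0 := by
    intro μ
    obtain ⟨N, hN⟩ := classInner_char_nat (isCharacter_comp f hχ)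
      (isCharacter_mul (isCharacter_comp (MonoidHom.fst A T) (irr_isCharacter μ))
        (isCharacter_comp (MonoidHom.snd A T) (isCharacter_linear η)))
    refine ⟨N, ?_⟩
    rw [← hN, classInner_def, Nat.card_prod, Fintype.sum_prod_type_right,
      ← Finset.add_sum_erase _ _ (Finset.mem_univ (1 : T))]
    have hA0 : (Nat.card A : ℂ) ≠ 0 := Nat.cast_ne_zero.2 Nat.card_pos.ne'
    have hT0 : (Nat.card T : ℂ) ≠ 0 := Nat.cast_ne_zero.2 Nat.card_pos.ne'
    have e1 : ∑ a : A, (χ ∘ f) (a, 1) *
        conj ((((μ : A → ℂ) ∘ MonoidHom.fst A T) * ((fun t : T => (η t : ℂ)) ∘ MonoidHom.snd A T)) (a, 1)) =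
        (Nat.card A : ℂ) * (n μ : ℂ) := by
      rw [← hn μ, classInner_def, ← mul_assoc, mul_inv_cancel₀ hA0, one_mul]
      exact Finset.sum_congr rfl fun a _ => by simp [f]
    have e2 : ∀ v ∈ (Finset.univ : Finset T).erase 1, ∑ a : A, (χ ∘ f) (a, v) *
        conj ((((μ : A → ℂ) ∘ MonoidHom.fst A T) * ((fun t : T => (η t : ℂ)) ∘ MonoidHom.snd A T)) (a, v)) =
        χ v * conj (η v : ℂ) * ((Nat.card A : ℂ) * if l = μ then 1 else 0) := by
      intro v hv
      have hv1 : (v : G) ≠ 1 := fun e => Finset.ne_of_mem_erase hv (Subtype.ext e)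
      rw [← classInner_irr l μ, classInner_def, ← mul_assoc (Nat.card A : ℂ), mul_inv_cancel₀ hA0,
        one_mul, Finset.mul_sum]
      refine Finset.sum_congr rfl fun a _ => ?_
      show χ ((a : G) * v) * conj ((μ : A → ℂ) a * (η v : ℂ)) = _
      rw [hval a v v.2 hv1, map_mul, hl]
      ring
    simp only [Function.comp_apply] at e1 e2 ⊢
    rw [e1, Finset.sum_congr rfl e2, ← Finset.sum_mul, hz, Nat.cast_mul]
    split_ifs <;> field_simp <;> ring
  -- a constituent other than `ν`
  obtain ⟨μ, hμl, hμn⟩ : ∃ μ : Cfsg.IrrCharacter A, μ ≠ l ∧ n μ ≠ 0 := by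
    by_contra hcon
    push Not at hcon
    obtain ⟨a, ha⟩ := hne
    have he : ∀ b : A, χ b = (n l : ℂ) * (ν b : ℂ) := fun b => by
      rw [hexp b, Finset.sum_eq_single l (fun μ _ hμ => by simp [hcon μ hμ])
        (fun h => absurd (Finset.mem_univ _) h)]
    refine ha ?_
    have h1 := he 1
    rw [OneMemClass.coe_one, map_one, Units.val_one, mul_one] at h1
    rw [he a, h1, mul_comm]
  choose N hN using hN
  have hμ' : (n μ : ℤ) = (Nat.card T : ℤ) * N μ := by
    have := hN μ
    rw [if_neg (Ne.symm hμl), add_zero] at this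
    exact_mod_cast this.symm
  have hl' : (n l : ℤ) + z = (Nat.card T : ℤ) * N l := by
    have := hN l
    rw [if_pos rfl] at this
    exact_mod_cast this.symm
  choose e he1 he using fun μ : Cfsg.IrrCharacter A => irr_one_pos μ.2
  have hdeg : d = ∑ ν' : Cfsg.IrrCharacter A, n ν' * e ν' := by
    have := hexp 1
    rw [OneMemClass.coe_one, hd] at this
    simp only [he] at this
    exact_mod_cast this
  have hsum : n μ * e μ + n l * e l ≤ d := by
    rw [hdeg, ← Finset.sum_pair (f := fun ν' => n ν' * e ν') hμl]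
    exact Finset.sum_le_sum_of_subset (Finset.subset_univ _)
  have h1 : n μ ≤ n μ * e μ := Nat.le_mul_of_pos_right _ (he1 μ)
  have h2 : n l ≤ n l * e l := Nat.le_mul_of_pos_right _ (he1 l)
  have hNμ : 1 ≤ (N μ : ℤ) := by
    rcases Nat.eq_zero_or_pos (N μ) with h0 | h0
    · rw [h0, Nat.cast_zero, mul_zero] at hμ'
      exact absurd (by exact_mod_cast hμ') hμn
    · exact_mod_cast h0
  have hT : (Nat.card T : ℤ) ≤ n μ := by
    rw [hμ']; exact le_mul_of_one_le_right (by positivity) hNμ
  have hl0 : (0 : ℤ) ≤ (Nat.card T : ℤ) * N l := by positivity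
  have hsum' : (n μ : ℤ) + n l ≤ d := by exact_mod_cast (by omega : n μ + n l ≤ d)
  constructor <;> omega

/-- A scalar element of a nontrivial character of a simple group is trivial. -/
theorem eq_one_of_scalar (hsimp : IsSimpleGroup G) (hna : ∃ a b : G, a * b ≠ b * a)
    (χ : Cfsg.IrrCharacter G) (hχ : χ ≠ trivIrr G) {y : G} {c : ℂ} (hc : ‖c‖ = 1)
    (h : (χ : G → ℂ) y = c * (χ : G → ℂ) 1) : y = 1 := by
  have hker : ∀ x : G, (χ : G → ℂ) x = (χ : G → ℂ) 1 → x = 1 := by
    intro x hx
    haveI := charKernel_normal (irr_isCharacter χ)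
    rcases hsimp.eq_bot_or_eq_top_of_normal (charKernel (χ : G → ℂ) (irr_isCharacter χ))
      inferInstance with e | e
    · rw [← mem_charKernel (h := irr_isCharacter χ), e, Subgroup.mem_bot] at hx
      exact hx
    · refine absurd ?_ hχ
      have hall : ∀ g, (χ : G → ℂ) g = (χ : G → ℂ) 1 := fun g =>
        (mem_charKernel (h := irr_isCharacter χ)).1 (e ▸ Subgroup.mem_top g)
      haveI := Fintype.ofFinite G
      by_contra hne
      have h0 := classInner_irr χ (trivIrr G)
      rw [if_neg hne, classInner_def] at h0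
      simp [hall, irr_one_ne_zero χ.2] at h0
  have hcen : y ∈ Subgroup.center G := by
    obtain ⟨χ, n, ρ, hρ, rfl⟩ := χ
    obtain ⟨w, hw⟩ : ∃ w : ℂ, ∀ v, ρ y v = w • v := by
      obtain ⟨w, hw⟩ := rep_apply_eq_smul_of_norm_eq ρ y (by
        simp only at h
        rw [h, norm_mul, hc, one_mul, Representation.char_one]
        simp)
      exact ⟨w, fun v => by rw [hw]; rfl⟩
    refine Subgroup.mem_center_iff.2 fun g => ?_
    have : g * y * g⁻¹ * y⁻¹ = 1 := by
      refine hker _ ?_
      have e : ρ (g * y * g⁻¹ * y⁻¹) = 1 := by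
        rw [map_mul, map_mul, map_mul]
        refine LinearMap.ext fun v => ?_
        simp only [Module.End.mul_apply]
        rw [hw, map_smul]
        have e1 : w • ρ y⁻¹ v = v := by
          rw [← hw, ← Module.End.mul_apply, ← map_mul, mul_inv_cancel, map_one]
          rfl
        rw [← map_smul (ρ g), ← map_smul (ρ g⁻¹), e1, ← Module.End.mul_apply, ← map_mul,
          mul_inv_cancel, map_one]
      show ρ.character _ = ρ.character 1
      simp only [Representation.character, e, map_one]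
    rwa [mul_inv_eq_one, mul_inv_eq_iff_eq_mul] at this
  rcases hsimp.eq_bot_or_eq_top_of_normal (Subgroup.center G) inferInstance with e | e
  · rwa [e, Subgroup.mem_bot] at hcen
  · obtain ⟨a, b, hab⟩ := hna
    exact absurd (Subgroup.mem_center_iff.1 (e ▸ Subgroup.mem_top b) a) hab

end Cfsg.Agent.GW.StableLinear
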