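import Mathlib
import Cfsg.Agent.Lib.GW.StableLinear.Family
import Cfsg.Agent.Lib.CharTheory.BrauerInduction
import Cfsg.Agent.Lib.Characters.Artin
import Cfsg.Agent.Lib.Cores.Nilpotent

/-!
# Twisting by a stable linear character

A generalized character vanishing on the elements of odd order stays one after multiplication by
the twisting class function, and inner products are preserved.
-/

set_option autoImplicit false
set_option linter.style.haveILetI false
set_option linter.unusedSectionVars false

namespace Cfsg.Agent.GW.StableLinear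

open Cfsg.Agent.Characters
open scoped ComplexConjugate Classical

universe u

variable {G : Type u} [Group G] [Fintype G] {P : Sylow 2 G} {σ τ : G} {m : ℕ}
  {θ : Subgroup.centralizer ({σ ^ m} : Set G) →* ℂˣ}

theorem conj_tw_mul (g : G) : tw θ g * conj (tw θ g) = 1 := by
  rw [tw]
  split_ifs with h
  · rw [tval, ext]
    split_ifs with hc
    · rw [Complex.mul_conj, Complex.normSq_eq_norm_sq, linear_norm_eq_one]
      simp
    · simp
  · simp

/-- A central involution of a finite nilpotent group of even order. -/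
theorem exists_center_inv {E : Type u} [Group E] [Finite E] [Group.IsNilpotent E]
    (h2 : 2 ∣ Nat.card E) : ∃ z : E, z ∈ Subgroup.center E ∧ orderOf z = 2 := by
  haveI : Fact (Nat.Prime 2) := ⟨Nat.prime_two⟩
  obtain ⟨Q⟩ : Nonempty (Sylow 2 E) := inferInstance
  haveI : (Q : Subgroup E).Normal := Q.normal_of_normalizerCondition
    Group.normalizerCondition_of_isNilpotent
  obtain ⟨v, hv⟩ := exists_prime_orderOf_dvd_card' 2 h2
  obtain ⟨R, hR⟩ := (Blocks.zpowers_isPGroup (x := v) (p := 2) ⟨1, by rw [hv, pow_one]⟩).exists_le_sylow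
  have hQ : (Q : Subgroup E) ≠ ⊥ := fun e => by
    have hQc := Q.card_eq_multiplicity
    rw [← R.card_eq_multiplicity, e, Subgroup.card_bot] at hQc
    have hv' : v ∈ (R : Subgroup E) := hR (Subgroup.mem_zpowers v)
    rw [Subgroup.eq_bot_of_card_eq (R : Subgroup E) hQc.symm, Subgroup.mem_bot] at hv'
    rw [hv', orderOf_one] at hv
    omega
  obtain ⟨⟨z, hzQ, hzC⟩, hz1⟩ :=
    Subgroup.ne_bot_iff_exists_ne_one.1 (Cores.inf_center_ne_bot hQ)
  have hne : z ≠ 1 := fun e => hz1 (Subtype.ext e)
  obtain ⟨k, hk⟩ := IsPGroup.iff_orderOf.1 Q.2 ⟨z, hzQ⟩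
  rw [Subgroup.orderOf_mk] at hk
  have h2z : 2 ∣ orderOf z := by
    rw [hk]
    refine dvd_pow_self 2 fun h0 => hne ?_
    rw [h0, pow_zero] at hk
    exact orderOf_eq_one_iff.1 hk
  exact ⟨invOf z, Subgroup.pow_mem _ hzC _, orderOf_invOf h2z⟩

variable (hS : Stable P σ τ m θ)
include hS

theorem tw_isClassFunction : Cfsg.IsClassFunction G (tw θ) := fun g x => tw_conj hS g x

/-- Twisting a generalized character vanishing on the elements of odd order. -/
theorem isGen_tw_mul {f : G → ℂ} (hf : Cfsg.IsGeneralizedCharacter G f)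
    (hreg : ∀ g : G, ¬ 2 ∣ orderOf g → f g = 0) :
    Cfsg.IsGeneralizedCharacter G (fun g => tw θ g * f g) := by
  refine CharTheory.BrauerInduction.isGen_of_elementary (fun g x => by
    simp only [tw_conj hS g x, isGen_isClassFunction hf g x]) fun E p hp hE => ?_
  by_cases h2 : 2 ∣ Nat.card E
  · haveI := Artin.isNilpotent_of_isElementary hp hE
    obtain ⟨z, hz, ho⟩ := exists_center_inv h2
    have ho' : orderOf (z : G) = 2 := by rw [Subgroup.orderOf_coe, ho]
    have hc : ∀ e : E, Commute (e : G) z := fun e =>
      congrArg Subtype.val (Subgroup.mem_center_iff.1 hz e)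
    let μ : E →* ℂˣ := MonoidHom.mk' (fun e => tval θ (z : G) (e : G)) fun a b =>
      hS.tval_mul ho' (hc a) (hc b)
    have he : (fun e : E => tw θ (e : G) * f e) = (fun e : E => (μ e : ℂ)) * fun e : E => f e := by
      funext e
      by_cases h : 2 ∣ orderOf (e : G)
      · rw [Pi.mul_apply, tw_of_commute hS h ho' (hc e)]; rfl
      · rw [Pi.mul_apply, hreg _ h, mul_zero, mul_zero]
    rw [he]
    exact isGen_mul (isGen_of_isCharacter (isCharacter_linear μ)) (isGen_restrict E hf)
  · have he : (fun e : E => tw θ (e : G) * f e) = 0 := by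
      funext e
      rw [hreg _ fun h => h2 (h.trans (by rw [Subgroup.orderOf_coe]; exact orderOf_dvd_natCard e)),
        mul_zero]
      rfl
    rw [he]
    exact isGen_zero

omit hS in
theorem classInner_tw (f f' : G → ℂ) :
    Cfsg.classInner (fun g => tw θ g * f g) (fun g => tw θ g * f' g) = Cfsg.classInner f f' := by
  rw [classInner_def, classInner_def]
  congr 1
  refine Finset.sum_congr rfl fun g _ => ?_
  rw [map_mul]
  linear_combination (f g * conj (f' g)) * conj_tw_mul (θ := θ) g

end Cfsg.Agent.GW.StableLinear
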