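import Mathlib
import Cfsg.Agent.Lib.GW.StableLinear.Twist
import Cfsg.Agent.Lib.GW.StableLinear.Block

/-!
# Inner products with the twisted columns of the principal block
-/

set_option autoImplicit false
set_option linter.style.haveILetI false
set_option linter.unusedSectionVars false

namespace Cfsg.Agent.GW.StableLinear

open Cfsg.Agent.Blocks Cfsg.Agent.Characters Cfsg.Agent.CharTheory.DihedralPrincipal
open scoped ComplexConjugate Classical

universe u

variable {G : Type u} [Group G] [Fintype G] [Fintype (Cfsg.IrrCharacter G)]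
  {P : Sylow 2 G} {σ τ : G} {m : ℕ}
  {θ : Subgroup.centralizer ({σ ^ m} : Set G) →* ℂˣ} {M : Ideal Cfsg.AlgInt}
  {B : Set (Cfsg.IrrCharacter G)}

/-- The elements of odd order commuting with `x`. -/
noncomputable def regC (x : G) : Finset G :=
  Finset.univ.filter fun s => Commute x s ∧ ¬ 2 ∣ orderOf s

theorem mem_regC {x s : G} : s ∈ regC x ↔ Commute x s ∧ ¬ 2 ∣ orderOf s := by simp [regC]

theorem regC_card_pos (x : G) : 0 < (regC x).card :=
  Finset.card_pos.2 ⟨1, mem_regC.2 ⟨Commute.one_right x, by simp⟩⟩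

theorem card_regC (x : G) : (regC x).card =
    Nat.card {s : Subgroup.centralizer ({x} : Set G) // ¬ 2 ∣ orderOf s} := by
  rw [Nat.card_eq_fintype_card, ← Finset.card_univ]
  symm
  refine Finset.card_bij (fun s _ => ((s : Subgroup.centralizer ({x} : Set G)) : G))
    (fun s _ => mem_regC.2 ⟨ZStar.Principal.commute_coe x s.1, by
      rw [Subgroup.orderOf_coe]; exact s.2⟩)
    (fun _ _ _ _ e => Subtype.ext (Subtype.ext e)) fun s hs => ?_
  obtain ⟨h1, h2⟩ := mem_regC.1 hs
  exact ⟨⟨⟨s, Subgroup.mem_centralizer_singleton_iff.2 h1.eq.symm⟩,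
    by rwa [Subgroup.orderOf_mk]⟩, Finset.mem_univ _, rfl⟩

/-- The average of `χ (x s)` against `θ` over the elements `s` of odd order commuting with `x`. -/
noncomputable def avgReg (θ : Subgroup.centralizer ({σ ^ m} : Set G) →* ℂˣ) (χ : G → ℂ) (x : G) : ℂ :=
  ((regC x).card : ℂ)⁻¹ * ∑ s ∈ regC x, χ (x * s) * conj (ext θ s : ℂ)

/-- The column of `x` in the principal block, as a class function. -/
noncomputable def colFun (M : Ideal Cfsg.AlgInt) (x g : G) : ℂ :=
  ∑ ψ ∈ prin (G := G) M, (ψ : G → ℂ) x * (ψ : G → ℂ) g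

theorem classInner_col (hM : Cfsg.IsPModular 2 M) (hS : Stable P σ τ m θ) {χ : G → ℂ}
    (hχ : Cfsg.IsClassFunction G χ) {x : G} (hx : x ∈ Subgroup.zpowers σ) (hx1 : x ≠ 1) :
    Cfsg.classInner χ (fun g => tw θ g * colFun M x g) = avgReg θ χ x := by
  set h := hS.dih
  set X := Finset.univ.filter fun z : G => IsConj x z with hX
  have hXp : ∀ z ∈ X, ∃ k : ℕ, orderOf z = 2 ^ k := fun z hz => by
    obtain ⟨c, rfl⟩ := isConj_iff.1 (Finset.mem_filter.1 hz).2
    rw [BlockCharsA.RegularPart.orderOf_conj']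
    exact h.rot_pElement hx
  have hfilter : Finset.univ.filter (fun g => InSection x g) =
      Finset.univ.filter fun g => ∃ z ∈ X, Cfsg.IsPPart 2 g z := by
    ext g; simp [InSection, hX]
  have hsum : ∑ g : G, χ g * conj (tw θ g * colFun M x g) =
      (DihSylow.wgt σ m x : ℂ) * ∑ z ∈ X,
        ∑ s ∈ Finset.univ.filter (fun s => Commute z s ∧ ¬ 2 ∣ orderOf s),
          χ (z * s) * conj (tw θ (z * s)) := by
    rw [← ZStar.Sections.sum_section Nat.prime_two X hXp (fun g => χ g * conj (tw θ g)), ← hfilter,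
      Finset.mul_sum, Finset.sum_filter]
    refine Finset.sum_congr rfl fun g _ => ?_
    rw [colFun, h.column hM hx hx1 g]
    by_cases hg : InSection x g
    · rw [if_pos hg, if_pos hg, map_mul, map_natCast]; ring
    · rw [if_neg hg, if_neg hg, mul_zero, map_zero, mul_zero]
  have hcoe : ∀ {s : G}, s ∈ regC x → tw θ (x * s) = (ext θ s : ℂ) := by
    intro s hs
    obtain ⟨hc, hodd⟩ := mem_regC.1 hs
    have hxt : Commute x (σ ^ m) := h.commute_J ((Subgroup.zpowers_le.2 h.σ_mem) hx)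
    have hst : Commute s (σ ^ m) := (h.pow_half hx hx1).2 ▸ hc.symm.pow_right _
    have h2 : 2 ∣ orderOf (x * s) := by
      obtain ⟨k, hk⟩ := h.rot_pElement hx
      have hcop : (orderOf x).Coprime (orderOf s) := by
        rw [hk]; exact ((Nat.prime_two.coprime_iff_not_dvd).2 hodd).pow_left k
      rw [hc.orderOf_mul_eq_mul_orderOf_of_coprime hcop]
      exact (h.pow_half hx hx1).1.trans (dvd_mul_right _ _)
    rw [tw_of_commute hS h2 hS.order_t (hxt.mul_left hst), hS.tval_mul hS.order_t hxt hst,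
      hS.tval_two hS.order_t hxt (h.rot_pElement hx), hS.tval_self hst, one_mul]
  have hz : ∀ z ∈ X, ∑ s ∈ Finset.univ.filter (fun s => Commute z s ∧ ¬ 2 ∣ orderOf s),
      χ (z * s) * conj (tw θ (z * s)) = ∑ s ∈ regC x, χ (x * s) * conj (ext θ s : ℂ) := by
    intro z hz
    obtain ⟨c, rfl⟩ := isConj_iff.1 (Finset.mem_filter.1 hz).2
    symm
    refine Finset.sum_bij (fun s _ => c * s * c⁻¹) (fun s hs => ?_)
      (fun a _ b _ e => mul_left_cancel (mul_right_cancel e)) (fun s hs => ?_) (fun s hs => ?_)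
    · obtain ⟨h1, h2⟩ := mem_regC.1 hs
      exact Finset.mem_filter.2 ⟨Finset.mem_univ _, commute_conj h1 c,
        by rwa [BlockCharsA.RegularPart.orderOf_conj']⟩
    · obtain ⟨h1, h2⟩ := (Finset.mem_filter.1 hs).2
      have h3 := commute_conj h1 c⁻¹
      rw [show c⁻¹ * (c * x * c⁻¹) * c⁻¹⁻¹ = x by group] at h3
      exact ⟨c⁻¹ * s * c⁻¹⁻¹, mem_regC.2 ⟨h3, by
        rwa [BlockCharsA.RegularPart.orderOf_conj']⟩, by group⟩
    · rw [show c * x * c⁻¹ * (c * s * c⁻¹) = c * (x * s) * c⁻¹ by group, hχ, tw_conj hS,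
        hcoe hs]
  rw [classInner_def, hsum, Finset.sum_congr rfl hz, Finset.sum_const, nsmul_eq_mul, avgReg]
  have hXcard : X.card * Nat.card (Subgroup.centralizer ({x} : Set G)) = Nat.card G := by
    rw [← card_carrier_mul_card_centralizer x]
    congr 1
    rw [Nat.card_eq_fintype_card, ← Set.toFinset_card]
    congr 1
    ext z
    simp only [hX, Finset.mem_filter, Finset.mem_univ, true_and, Set.mem_toFinset,
      ConjClasses.mem_carrier_iff_mk_eq, ConjClasses.mk_eq_mk_iff_isConj]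
    exact ⟨fun e => e.symm, fun e => e.symm⟩
  have hR := h.card_regular hx hx1
  rw [← card_regC] at hR
  rw [← hR] at hXcard
  rw [← hXcard]
  have hX0 : (X.card : ℂ) ≠ 0 := Nat.cast_ne_zero.2
    (Finset.card_ne_zero.2 ⟨x, Finset.mem_filter.2 ⟨Finset.mem_univ _, IsConj.refl x⟩⟩)
  have hr0 : ((regC x).card : ℂ) ≠ 0 := Nat.cast_ne_zero.2 (regC_card_pos x).ne'
  have hw0 : (DihSylow.wgt σ m x : ℂ) ≠ 0 := by
    refine Nat.cast_ne_zero.2 ?_
    unfold DihSylow.wgt; split_ifs <;> linarith [h.pos]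
  push_cast
  field_simp

theorem avgReg_of_mem (hM : Cfsg.IsPModular 2 M) (hS : Stable P σ τ m θ)
    (hB : Cfsg.IsMaximalBrauerPair 2 M B (P : Subgroup G) (blkLam hS M (P : Subgroup G)))
    {χ : Cfsg.IrrCharacter G} (hχ : χ ∈ B) {x : G} (hx : x ∈ Subgroup.zpowers σ) (hx1 : x ≠ 1) :
    avgReg θ (χ : G → ℂ) x = (χ : G → ℂ) x := by
  rw [avgReg, Finset.sum_congr rfl (g := fun _ => (χ : G → ℂ) x) fun s hs => ?_, Finset.sum_const,
    nsmul_eq_mul, inv_mul_cancel_left₀ (Nat.cast_ne_zero.2 (regC_card_pos x).ne')]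
  obtain ⟨hc, hodd⟩ := mem_regC.1 hs
  rw [value_rot hM hS hB hχ hx hx1 hc hodd, mul_comm (ext θ s : ℂ), mul_assoc, Complex.mul_conj,
    Complex.normSq_eq_norm_sq, ext_of_mem θ (mem_cent.2
      ((hS.dih.pow_half hx hx1).2 ▸ hc.symm.pow_right _)), linear_norm_eq_one]
  simp

theorem avgReg_J (h : DihSylow P σ τ m) (θ : Subgroup.centralizer ({σ ^ m} : Set G) →* ℂˣ)
    (χ : G → ℂ) : avgReg θ χ (σ ^ m) = BlockIdentity.coef (regKer h) χ
      (fun x : Subgroup.centralizer ({σ ^ m} : Set G) => (θ x : ℂ)) := by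
  rw [BlockIdentity.coef, classInner_def, avgReg]
  have hreg : ∀ y : regKer h,
      ((y : Subgroup.centralizer ({σ ^ m} : Set G)) : G) ∈ regC (σ ^ m) := fun y =>
    mem_regC.2 ⟨(Subgroup.mem_centralizer_singleton_iff.1 y.1.2).symm, by
      rw [Subgroup.orderOf_coe]; exact (mem_regKer h).1 y.2⟩
  have hsurj : ∀ s ∈ regC (σ ^ m), ∃ y : regKer h,
      ((y : Subgroup.centralizer ({σ ^ m} : Set G)) : G) = s := fun s hs => by
    obtain ⟨h1, h2⟩ := mem_regC.1 hs
    exact ⟨⟨⟨s, Subgroup.mem_centralizer_singleton_iff.2 h1.eq.symm⟩,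
      (mem_regKer h).2 (by rwa [Subgroup.orderOf_mk])⟩, rfl⟩
  congr 1
  · congr 2
    rw [Nat.card_eq_fintype_card, ← Finset.card_univ]
    symm
    exact Finset.card_bij (fun y _ => _) (fun y _ => hreg y)
      (fun _ _ _ _ e => Subtype.ext (Subtype.ext e))
      (fun s hs => by obtain ⟨y, hy⟩ := hsurj s hs; exact ⟨y, Finset.mem_univ _, hy⟩)
  · symm
    refine Finset.sum_bij (fun y _ => _) (fun y _ => hreg y)
      (fun _ _ _ _ e => Subtype.ext (Subtype.ext e))
      (fun s hs => by obtain ⟨y, hy⟩ := hsurj s hs; exact ⟨y, Finset.mem_univ _, hy⟩)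
      (fun y _ => ?_)
    rw [ext_of_mem θ y.1.2]

end Cfsg.Agent.GW.StableLinear
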