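import Mathlib

/-!
# Sums of signed reciprocals of the degrees
-/

set_option autoImplicit false
set_option linter.style.haveILetI false

namespace Cfsg.Agent.GW.StableLinear

theorem inv_le_of_large {a L : ℝ} (hL : 0 < L) (ha : L ≤ |a|) : 1 / a ≤ 1 / L := by
  rcases lt_trichotomy a 0 with h | h | h
  · have : 1 / a < 0 := div_neg_of_pos_of_neg one_pos h
    have : 0 < 1 / L := by positivity
    linarith
  · simp [h] at ha; linarith
  · rw [abs_of_pos h] at ha
    exact one_div_le_one_div_of_le hL ha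

theorem pair_le_pos {a b S L : ℝ} (hL : 0 < L) (ha : L ≤ |a|) (hb : L ≤ |b|) (hs : a + b = S)
    (hS : 0 < S) : 1 / a + 1 / b - 4 / S ≤ 1 / L := by
  wlog hab : b ≤ a generalizing a b with H
  · have := H hb ha (by linarith) (le_of_not_ge hab)
    linarith
  have ha0 : 0 < a := by linarith
  have h4 : 0 < 4 / S := by positivity
  rcases le_or_gt b 0 with hb0 | hb0
  · have : 1 / b ≤ 0 := div_nonpos_of_nonneg_of_nonpos zero_le_one hb0
    have := inv_le_of_large hL ha
    linarith
  · have h1 : 1 / a ≤ 4 / S := by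
      rw [div_le_div_iff₀ ha0 hS]; linarith
    have := inv_le_of_large hL hb
    linarith

theorem pair_le_neg {a b S L : ℝ} (hL : 0 < L) (ha : L ≤ |a|) (hb : L ≤ |b|) (hs : a + b = S)
    (hS : S < 0) : 1 / a + 1 / b - 4 / S ≤ 1 / L + 4 / (-S) := by
  wlog hab : b ≤ a generalizing a b with H
  · have := H hb ha (by linarith) (le_of_not_ge hab)
    linarith
  have hb0 : b < 0 := by linarith
  have : 1 / b ≤ 0 := (div_neg_of_pos_of_neg one_pos hb0).le
  have := inv_le_of_large hL ha
  rw [div_neg]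
  linarith

/-- The bound for the first pattern. -/
theorem normal_le {a b p q S L : ℝ} (hL : 8 ≤ L) (ha : L ≤ |a|) (hb : L ≤ |b|) (hp : L ≤ |p|)
    (hq : L ≤ |q|) (hab : a + b = S) (hpq : -p + -q = S) (hS0 : S ≠ 0)
    (hneg : S < 0 → 14 ≤ -S) : 1 / a + 1 / b + (-1 / p + -1 / q) + -8 / S ≤ 23 / 28 := by
  have hL0 : 0 < L := by linarith
  have hp' : L ≤ |-p| := by rwa [abs_neg]
  have hq' : L ≤ |-q| := by rwa [abs_neg]
  have e : 1 / a + 1 / b + (-1 / p + -1 / q) + -8 / S =
      (1 / a + 1 / b - 4 / S) + (1 / (-p) + 1 / (-q) - 4 / S) := by ring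
  have h8 : 1 / L ≤ 1 / 8 := one_div_le_one_div_of_le (by norm_num) hL
  rw [e]
  rcases lt_or_gt_of_ne hS0 with hS | hS
  · have h14 : 4 / (-S) ≤ 4 / 14 := div_le_div_of_nonneg_left (by norm_num) (by norm_num) (hneg hS)
    have := pair_le_neg hL0 ha hb hab hS
    have := pair_le_neg hL0 hp' hq' hpq hS
    linarith
  · have := pair_le_pos hL0 ha hb hab hS
    have := pair_le_pos hL0 hp' hq' hpq hS
    linarith

/-- The bound for the exceptional pattern. -/
theorem exotic_le {S : ℝ} (h : 0 < S → 70 ≤ S) : 128 / (3 * S) ≤ 23 / 28 := by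
  rcases le_or_gt S 0 with hS | hS
  · exact (div_nonpos_of_nonneg_of_nonpos (by norm_num) (by linarith)).trans (by norm_num)
  · rw [div_le_div_iff₀ (by linarith) (by norm_num)]
    linarith [h hS]

/-- The lower bound coming from the first exceptional character. -/
theorem first_ge {x F : ℝ} (h16 : 16 ≤ |x|) (hF : F = 1 + 1 / x - 4 / (1 + x)) :
    225 / 272 ≤ F := by
  have hx : x ≠ 0 := fun e => by rw [e, abs_zero] at h16; norm_num at h16
  have hx1 : 1 + x ≠ 0 := fun e => by
    rw [show x = -1 by linarith, abs_neg, abs_one] at h16; norm_num at h16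
  have e : F = (x - 1) ^ 2 / (x * (1 + x)) := by
    rw [hF]; field_simp; ring
  have hpos : 0 < x * (1 + x) := by
    rcases le_or_gt 0 x with h | h
    · rw [abs_of_nonneg h] at h16; nlinarith
    · rw [abs_of_neg h] at h16; nlinarith
  rw [e, le_div_iff₀ hpos]
  rcases le_or_gt 0 x with h | h
  · rw [abs_of_nonneg h] at h16
    nlinarith [mul_nonneg (sub_nonneg.2 h16) (show (0 : ℝ) ≤ 47 * x - 17 by linarith)]
  · rw [abs_of_neg h] at h16
    nlinarith

end Cfsg.Agent.GW.StableLinear
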