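import Mathlib
import Cfsg.Agent.Lib.GW.StableLinear.Bounds

/-!
# The shape of the twisted principal lattice

A vector of norm four and vectors of norm three with the Gram matrix of the principal block,
all of degree zero: two patterns, and in both the sum of the cubes of the values at the central
involution divided by the degrees is small.
-/

set_option autoImplicit false
set_option linter.style.haveILetI false
set_option linter.unusedSectionVars false

namespace Cfsg.Agent.GW.StableLinear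

variable {ι : Type*} [Fintype ι] [DecidableEq ι]

/-- Vectors with the Gram matrix and degrees of the twisted principal lattice. -/
structure Lat (f : ι → ℤ) (e : ℕ → ι → ℤ) (x : ι → ℤ) (m : ℕ) : Prop where
  pow : ∃ k : ℕ, 1 ≤ k ∧ m = 2 ^ k
  pos : ∀ c, 0 < x c
  ff : ∑ c, f c * f c = 4
  ee : ∀ j ∈ Finset.Ioo 0 m, ∑ c, e j c * e j c = 3
  ek : ∀ j ∈ Finset.Ioo 0 m, ∀ k ∈ Finset.Ioo 0 m, j ≠ k → ∑ c, e j c * e k c = 2
  fe : ∀ j ∈ Finset.Ioo 0 m, ∑ c, f c * e j c = -2
  fdeg : ∑ c, f c * x c = 0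
  edeg : ∀ j ∈ Finset.Ioo 0 m, ∑ c, e j c * x c = 0

/-- The value at the central involution. -/
def tVal (f : ι → ℤ) (e : ℕ → ι → ℤ) (m : ℕ) (c : ι) : ℤ :=
  -f c + 2 * ∑ j ∈ Finset.Ioo 0 m, (-1) ^ j * e j c

/-- The sum of the values at the nontrivial rotations. -/
def rVal (f : ι → ℤ) (e : ℕ → ι → ℤ) (m : ℕ) (c : ι) : ℤ :=
  f c - 2 * ∑ j ∈ Finset.Ioo 0 m, e j c

theorem sign_of_sq_le {z : ℤ} (hz : z * z ≤ 3) : z = -1 ∨ z = 0 ∨ z = 1 := by
  have : -1 ≤ z ∧ z ≤ 1 := ⟨by nlinarith, by nlinarith⟩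
  omega

theorem inter_pair {α : Type*} [DecidableEq α] {A p q : Finset α} (hp : p ⊆ A) (hq : q ⊆ A)
    (hpc : p.card = 2) (hqc : q.card = 2) (h : (p ∩ q).card = 1) :
    ∃ a b c, a ≠ b ∧ b ≠ c ∧ a ≠ c ∧ p = {a, b} ∧ q = {b, c} ∧ a ∈ A ∧ b ∈ A ∧ c ∈ A := by
  obtain ⟨b, hb⟩ := Finset.card_eq_one.1 h
  have hbpq : b ∈ p ∩ q := hb ▸ Finset.mem_singleton_self b
  obtain ⟨hbp, hbq⟩ := Finset.mem_inter.1 hbpq
  obtain ⟨a, ha⟩ := Finset.card_eq_one.1 (show (p.erase b).card = 1 by
    rw [Finset.card_erase_of_mem hbp, hpc])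
  obtain ⟨c, hc⟩ := Finset.card_eq_one.1 (show (q.erase b).card = 1 by
    rw [Finset.card_erase_of_mem hbq, hqc])
  have ha' : a ∈ p.erase b := ha ▸ Finset.mem_singleton_self a
  have hc' : c ∈ q.erase b := hc ▸ Finset.mem_singleton_self c
  obtain ⟨hab, hap⟩ := Finset.mem_erase.1 ha'
  obtain ⟨hcb, hcq⟩ := Finset.mem_erase.1 hc'
  refine ⟨a, b, c, hab, hcb.symm, fun e => hab ?_, ?_, ?_, hp hap, hp hbp, hq hcq⟩
  · exact Finset.mem_singleton.1 (hb ▸ Finset.mem_inter.2 ⟨hap, e ▸ hcq⟩)
  · rw [← Finset.insert_erase hbp, ha, Finset.pair_comm]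
  · rw [← Finset.insert_erase hbq, hc]

/-- The third of three pairwise meeting pairs. -/
theorem third_pair {α : Type*} [DecidableEq α] {p : Finset α} {a b c d : α} (hab : a ≠ b)
    (hbc : b ≠ c) (hac : a ≠ c) (hsub : p ⊆ {a, b, c, d}) (hp : p.card = 2)
    (h1 : (p ∩ {a, b}).card = 1) (h2 : (p ∩ {b, c}).card = 1) :
    p = {b, d} ∨ p = {c, a} := by
  obtain ⟨u, hu⟩ := Finset.card_eq_one.1 h1
  obtain ⟨v, hv⟩ := Finset.card_eq_one.1 h2
  have mu : ∀ z, z ∈ p → z ∈ ({a, b} : Finset α) → z = u := fun z hz hz' =>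
    Finset.mem_singleton.1 (hu ▸ Finset.mem_inter.2 ⟨hz, hz'⟩)
  have mv : ∀ z, z ∈ p → z ∈ ({b, c} : Finset α) → z = v := fun z hz hz' =>
    Finset.mem_singleton.1 (hv ▸ Finset.mem_inter.2 ⟨hz, hz'⟩)
  have hup := Finset.mem_inter.1 (hu ▸ Finset.mem_singleton_self u : u ∈ p ∩ {a, b})
  have hvp := Finset.mem_inter.1 (hv ▸ Finset.mem_singleton_self v : v ∈ p ∩ {b, c})
  by_cases hb : b ∈ p
  · refine Or.inl (Finset.eq_of_subset_of_card_le (fun z hz => ?_)
      (hp ▸ Finset.card_le_two))
    have hz' := hsub hz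
    simp only [Finset.mem_insert, Finset.mem_singleton] at hz' ⊢
    have ub : b = u := mu b hb (by simp)
    have vb : b = v := mv b hb (by simp)
    rcases hz' with e | e | e | e
    · exact absurd (e ▸ (mu z hz (by simp [e])).trans ub.symm) hab
    · exact Or.inl e
    · exact absurd (e ▸ (mv z hz (by simp [e])).trans vb.symm) hbc.symm
    · exact Or.inr e
  · refine Or.inr (Finset.eq_of_subset_of_card_le (fun z hz => ?_) ?_).symm
    · have ua : u = a := by
        rcases Finset.mem_insert.1 hup.2 with e | e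
        · exact e
        · exact absurd (Finset.mem_singleton.1 e ▸ hup.1) hb
      have vc : v = c := by
        rcases Finset.mem_insert.1 hvp.2 with e | e
        · exact absurd (e ▸ hvp.1) hb
        · exact Finset.mem_singleton.1 e
      rcases Finset.mem_insert.1 hz with e | e
      · exact e ▸ vc ▸ hvp.1
      · exact Finset.mem_singleton.1 e ▸ ua ▸ hup.1
    · rw [hp, Finset.card_pair hac.symm]

namespace Lat

variable {f : ι → ℤ} {e : ℕ → ι → ℤ} {x : ι → ℤ} {m : ℕ} (L : Lat f e x m)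
include L

theorem two_le : 2 ≤ m := by
  obtain ⟨k, hk, rfl⟩ := L.pow
  calc (2 : ℕ) = 2 ^ 1 := by norm_num
    _ ≤ 2 ^ k := Nat.pow_le_pow_right two_pos hk

theorem sum_neg_one : ∑ j ∈ Finset.Ioo 0 m, (-1 : ℤ) ^ j = -1 := by
  obtain ⟨k, hk, rfl⟩ := L.pow
  have he : Even (2 ^ k) := (Nat.even_pow).2 ⟨even_two, by omega⟩
  have h : ∑ j ∈ Finset.range (2 ^ k), (-1 : ℤ) ^ j = 0 := by
    rw [neg_one_geom_sum, if_pos he]
  rw [show Finset.range (2 ^ k) = insert 0 (Finset.Ioo 0 (2 ^ k)) by
      ext j; simp only [Finset.mem_range, Finset.mem_insert, Finset.mem_Ioo]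
      have := Nat.two_pow_pos k
      omega,
    Finset.sum_insert (by simp), pow_zero, add_comm] at h
  exact eq_neg_of_add_eq_zero_left h

theorem f_sign (c : ι) : f c = -1 ∨ f c = 0 ∨ f c = 1 := by
  have h1 : f c * f c ≤ 4 := L.ff ▸
    Finset.single_le_sum (f := fun c => f c * f c) (fun c _ => mul_self_nonneg _) (Finset.mem_univ c)
  rcases lt_or_eq_of_le h1 with h | h
  · exact sign_of_sq_le (by omega)
  exfalso
  have hrest : ∀ d, d ≠ c → f d = 0 := fun d hd => by
    have h2 := Finset.add_sum_erase Finset.univ (fun c => f c * f c) (Finset.mem_univ c)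
    rw [L.ff, h] at h2
    exact mul_self_eq_zero.1 ((Finset.sum_eq_zero_iff_of_nonneg fun a _ => mul_self_nonneg _).1
      (by omega) d (Finset.mem_erase.2 ⟨hd, Finset.mem_univ d⟩))
  have h3 := L.fdeg
  rw [Finset.sum_eq_single c (fun d _ hd => by rw [hrest d hd, zero_mul])
    (fun hn => absurd (Finset.mem_univ c) hn)] at h3
  rcases mul_eq_zero.1 h3 with h4 | h4
  · rw [h4] at h; norm_num at h
  · exact (L.pos c).ne' h4

theorem e_sign {j : ℕ} (hj : j ∈ Finset.Ioo 0 m) (c : ι) :
    e j c = -1 ∨ e j c = 0 ∨ e j c = 1 :=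
  sign_of_sq_le (L.ee j hj ▸ Finset.single_le_sum (f := fun c => e j c * e j c)
    (fun c _ => mul_self_nonneg _) (Finset.mem_univ c))

theorem card_supp {v : ι → ℤ} (hv : ∀ c, v c = -1 ∨ v c = 0 ∨ v c = 1) :
    ∑ c, v c * v c = ((Finset.univ.filter fun c => v c ≠ 0).card : ℤ) := by
  rw [Finset.cast_card, Finset.sum_filter]
  refine Finset.sum_congr rfl fun c _ => ?_
  rcases hv c with h | h | h <;> simp [h]

theorem exists_form : ∃ (p : ℕ → Finset ι) (y : ℕ → ι) (s : ℕ → ℤ),
    (Finset.univ.filter fun c => f c ≠ 0).card = 4 ∧ ∀ j ∈ Finset.Ioo 0 m,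
      p j ⊆ (Finset.univ.filter fun c => f c ≠ 0) ∧ (p j).card = 2 ∧ f (y j) = 0 ∧
        (s j = 1 ∨ s j = -1) ∧
        ∀ c, e j c = (if c ∈ p j then -f c else 0) + (if c = y j then s j else 0) := by
  set A := Finset.univ.filter fun c => f c ≠ 0 with hA
  have hA4 : A.card = 4 := by
    have := L.card_supp L.f_sign
    rw [L.ff] at this
    exact_mod_cast this.symm
  have key : ∀ j, ∃ (p : Finset ι) (y : ι) (s : ℤ), j ∈ Finset.Ioo 0 m →
      p ⊆ A ∧ p.card = 2 ∧ f y = 0 ∧ (s = 1 ∨ s = -1) ∧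
        ∀ c, e j c = (if c ∈ p then -f c else 0) + (if c = y then s else 0) := by
    intro j
    by_cases hj : j ∈ Finset.Ioo 0 m
    swap
    · obtain ⟨c, -⟩ : A.Nonempty := Finset.card_pos.1 (by omega)
      exact ⟨∅, c, 0, fun h => absurd h hj⟩
    set E := Finset.univ.filter fun c => e j c ≠ 0 with hE
    have hE3 : E.card = 3 := by
      have := L.card_supp (L.e_sign hj)
      rw [L.ee j hj] at this
      exact_mod_cast this.symm
    have hfe : ∑ c ∈ E ∩ A, f c * e j c = -2 := by
      rw [← L.fe j hj]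
      refine Finset.sum_subset (Finset.subset_univ _) fun c _ hc => ?_
      simp only [hE, hA, Finset.mem_inter, Finset.mem_filter, Finset.mem_univ, true_and,
        not_and_or, not_not] at hc
      rcases hc with h | h <;> simp [h]
    have hval : ∀ c ∈ E ∩ A, f c * e j c = 1 ∨ f c * e j c = -1 := fun c hc => by
      simp only [hE, hA, Finset.mem_inter, Finset.mem_filter, Finset.mem_univ, true_and] at hc
      rcases L.f_sign c with h | h | h <;> rcases L.e_sign hj c with h' | h' | h' <;>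
        simp [h, h'] at hc ⊢
    set K := (E ∩ A).filter fun c => f c * e j c = -1
    have hK : ((E ∩ A).card : ℤ) - 2 * (K.card : ℤ) = -2 := by
      rw [← hfe, Finset.cast_card, Finset.cast_card, Finset.sum_filter, Finset.mul_sum,
        ← Finset.sum_sub_distrib]
      refine Finset.sum_congr rfl fun c hc => ?_
      rcases hval c hc with h | h <;> simp [h]
    have hKle : K.card ≤ (E ∩ A).card := Finset.card_filter_le _ _
    have hle : (E ∩ A).card ≤ 3 := hE3 ▸ Finset.card_le_card Finset.inter_subset_left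
    have h2 : (E ∩ A).card = 2 ∧ K.card = 2 := by omega
    have hKeq : K = E ∩ A := Finset.eq_of_subset_of_card_le (Finset.filter_subset _ _) (by omega)
    obtain ⟨y, hy⟩ := Finset.card_eq_one.1 (show (E \ A).card = 1 by
      have := Finset.card_sdiff_add_card_inter E A
      omega)
    have hy' : y ∈ E \ A := hy ▸ Finset.mem_singleton_self y
    simp only [hE, hA, Finset.mem_sdiff, Finset.mem_filter, Finset.mem_univ, true_and, not_not] at hy'
    refine ⟨E ∩ A, y, e j y, fun _ => ⟨Finset.inter_subset_right, h2.1, hy'.2, ?_, fun c => ?_⟩⟩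
    · rcases L.e_sign hj y with h | h | h
      · exact Or.inr h
      · exact absurd h hy'.1
      · exact Or.inl h
    by_cases hcA : c ∈ A
    · have hcy : c ≠ y := fun h => (Finset.mem_filter.1 hcA).2 (h ▸ hy'.2)
      rw [if_neg hcy, add_zero]
      split_ifs with hc
      · have h := (Finset.mem_filter.1 (hKeq ▸ hc : c ∈ K)).2
        rcases L.f_sign c with h1 | h1 | h1 <;> rw [h1] at h ⊢ <;> omega
      · by_contra h
        exact hc (Finset.mem_inter.2 ⟨Finset.mem_filter.2 ⟨Finset.mem_univ _, h⟩, hcA⟩)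
    · rw [if_neg fun h => hcA (Finset.mem_inter.1 h).2, zero_add]
      split_ifs with hc
      · rw [hc]
      · by_contra h
        exact hc (Finset.mem_singleton.1 (hy ▸ Finset.mem_sdiff.2
          ⟨Finset.mem_filter.2 ⟨Finset.mem_univ _, h⟩, hcA⟩))
  choose p y s h using key
  exact ⟨p, y, s, hA4, h⟩

/-- Two pairs agree with distinct third entries, or meet once with the same one. -/
theorem pair_cases {p : ℕ → Finset ι} {y : ℕ → ι} {s : ℕ → ℤ}
    (hp : ∀ j ∈ Finset.Ioo 0 m, p j ⊆ (Finset.univ.filter fun c => f c ≠ 0) ∧ (p j).card = 2 ∧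
      f (y j) = 0 ∧ (s j = 1 ∨ s j = -1) ∧
      ∀ c, e j c = (if c ∈ p j then -f c else 0) + (if c = y j then s j else 0))
    {j k : ℕ} (hj : j ∈ Finset.Ioo 0 m) (hk : k ∈ Finset.Ioo 0 m) (hjk : j ≠ k) :
    (p j = p k ∧ y j ≠ y k) ∨ ((p j ∩ p k).card = 1 ∧ y j = y k ∧ s j = s k) := by
  obtain ⟨hjA, hjc, hjy, hjs, hje⟩ := hp j hj
  obtain ⟨hkA, hkc, hky, hks, hke⟩ := hp k hk
  have hne : ∀ {c i}, c ∈ p i → i ∈ Finset.Ioo 0 m → f c ≠ 0 := fun hc hi =>
    (Finset.mem_filter.1 ((hp _ hi).1 hc)).2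
  have h := L.ek j hj k hk hjk
  have e1 : ∀ c, e j c * e k c = (if c ∈ p j ∩ p k then (1 : ℤ) else 0) +
      (if c = y j then (if y j = y k then s j * s k else 0) else 0) := by
    intro c
    have n1 : ∀ {i}, i ∈ Finset.Ioo 0 m → c ∈ p i → c ≠ y j ∧ c ≠ y k := fun hi hc =>
      ⟨fun h => hne hc hi (h ▸ hjy), fun h => hne hc hi (h ▸ hky)⟩
    rw [hje, hke]
    by_cases h1 : c ∈ p j
    · obtain ⟨a1, a2⟩ := n1 hj h1
      by_cases h2 : c ∈ p k
      · simp only [Finset.mem_inter, h1, h2, a1, a2, if_true, if_false, add_zero, and_self]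
        rcases L.f_sign c with h3 | h3 | h3
        · rw [h3]; norm_num
        · exact absurd h3 (hne h1 hj)
        · rw [h3]; norm_num
      · simp [h1, h2, a1, a2]
    · by_cases h2 : c ∈ p k
      · obtain ⟨a1, a2⟩ := n1 hk h2
        simp [h1, h2, a1, a2]
      · simp only [Finset.mem_inter, h1, h2, if_false, false_and, zero_add]
        by_cases h3 : c = y j
        · subst h3
          simp only [if_true]
          split_ifs <;> ring
        · simp [h3]
  rw [Finset.sum_congr rfl fun c _ => e1 c, Finset.sum_add_distrib, Finset.sum_ite_mem,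
    Finset.univ_inter, Finset.sum_const, nsmul_one, Finset.sum_ite_eq',
    if_pos (Finset.mem_univ _)] at h
  have hle : (p j ∩ p k).card ≤ 2 := hjc ▸ Finset.card_le_card Finset.inter_subset_left
  by_cases hy : y j = y k
  · rw [if_pos hy] at h
    refine Or.inr ?_
    rcases hjs with a | a <;> rcases hks with b | b <;> rw [a, b] at h ⊢ <;>
      refine ⟨?_, hy, ?_⟩ <;> omega
  · rw [if_neg hy, add_zero] at h
    have h2 : (p j ∩ p k).card = 2 := by exact_mod_cast h
    refine Or.inl ⟨?_, hy⟩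
    have e2 : p j ∩ p k = p j := Finset.eq_of_subset_of_card_le Finset.inter_subset_left (by omega)
    have e3 : p j ∩ p k = p k := Finset.eq_of_subset_of_card_le Finset.inter_subset_right (by omega)
    exact e2.symm.trans e3

theorem abs_signed {c : ι} (hc : f c ≠ 0) : |(f c : ℝ) * (x c : ℝ)| = (x c : ℝ) := by
  have : (0 : ℝ) < (x c : ℝ) := by exact_mod_cast L.pos c
  rcases L.f_sign c with h | h | h
  · rw [h]; push_cast; rw [neg_one_mul, abs_neg, abs_of_pos this]
  · exact absurd h hc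
  · rw [h]; push_cast; rw [one_mul, abs_of_pos this]

theorem cube_div {c : ι} (hc : f c ≠ 0) {t : ℤ} :
    ((f c * t : ℤ) : ℝ) ^ 3 / (x c : ℝ) = (t : ℝ) ^ 3 / ((f c : ℝ) * (x c : ℝ)) := by
  rcases L.f_sign c with h | h | h
  · rw [h]; push_cast; ring
  · exact absurd h hc
  · rw [h]; push_cast; ring

/-- The sum over the two patterns is small. -/
theorem sum_le (hb : ∀ c, tVal f e m c ≠ 0 →
      4 * (m : ℤ) ≤ x c ∧ 4 * (m : ℤ) + 2 * (m : ℤ) * tVal f e m c - rVal f e m c ≤ x c) :
    ∑ c, (tVal f e m c : ℝ) ^ 3 / (x c : ℝ) ≤ 23 / 28 := by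
  obtain ⟨p, y, s, hA4, hp⟩ := L.exists_form
  have hm2 := L.two_le
  set A := Finset.univ.filter fun c => f c ≠ 0 with hA
  set J := Finset.Ioo 0 m with hJ
  have h1J : 1 ∈ J := Finset.mem_Ioo.2 ⟨one_pos, by omega⟩
  have hAne : ∀ {c}, c ∈ A → f c ≠ 0 := fun hc => (Finset.mem_filter.1 hc).2
  have hAy : ∀ {c j}, c ∈ A → j ∈ J → c ≠ y j := fun hc hj h => hAne hc (h ▸ (hp _ hj).2.2.1)
  -- the signed degrees of the pairs
  have hS : ∀ j ∈ J, s j * x (y j) = ∑ c ∈ p j, f c * x c := by
    intro j hj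
    have h := L.edeg j hj
    simp only [(hp j hj).2.2.2.2, add_mul, ite_mul, zero_mul, Finset.sum_add_distrib,
      Finset.sum_ite_mem, Finset.univ_inter, Finset.sum_ite_eq', Finset.mem_univ, if_true,
      neg_mul, Finset.sum_neg_distrib] at h
    linarith
  have hfdeg : ∑ c ∈ A, f c * x c = 0 := by
    rw [← L.fdeg]
    exact Finset.sum_subset (Finset.subset_univ _) fun c _ hc => by
      simp only [hA, Finset.mem_filter, Finset.mem_univ, true_and, not_not] at hc
      rw [hc, zero_mul]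
  -- the values on `A` and outside
  have hTA : ∀ c ∈ A, tVal f e m c =
      f c * (-1 - 2 * ∑ j ∈ J, (-1) ^ j * (if c ∈ p j then 1 else 0)) := by
    intro c hc
    rw [tVal, mul_sub, mul_neg_one, Finset.mul_sum, Finset.mul_sum, Finset.mul_sum,
      sub_eq_add_neg (-f c), ← Finset.sum_neg_distrib]
    congr 1
    refine Finset.sum_congr rfl fun j hj => ?_
    rw [(hp j hj).2.2.2.2, if_neg (hAy hc hj)]
    split_ifs <;> ring
  have hRA : ∀ c ∈ A, rVal f e m c = f c * (1 + 2 * ∑ j ∈ J, (if c ∈ p j then 1 else 0)) := by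
    intro c hc
    rw [rVal, mul_add, mul_one, Finset.mul_sum, Finset.mul_sum, Finset.mul_sum, sub_eq_add_neg,
      ← Finset.sum_neg_distrib]
    congr 1
    refine Finset.sum_congr rfl fun j hj => ?_
    rw [(hp j hj).2.2.2.2, if_neg (hAy hc hj)]
    split_ifs <;> ring
  have hTo : ∀ c, f c = 0 → tVal f e m c = 2 * ∑ j ∈ J, (-1) ^ j * (if c = y j then s j else 0) := by
    intro c hc
    rw [tVal, hc, neg_zero, zero_add]
    congr 1
    refine Finset.sum_congr rfl fun j hj => ?_
    rw [(hp j hj).2.2.2.2]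
    simp [hc]
  have hRo : ∀ c, f c = 0 → rVal f e m c = -2 * ∑ j ∈ J, (if c = y j then s j else 0) := by
    intro c hc
    rw [rVal, hc, zero_sub, ← neg_mul]
    congr 1
    refine Finset.sum_congr rfl fun j hj => ?_
    rw [(hp j hj).2.2.2.2]
    simp [hc]
  have hyA : Disjoint A (J.image y) := by
    rw [Finset.disjoint_left]
    intro c hc hy
    obtain ⟨j, hj, rfl⟩ := Finset.mem_image.1 hy
    exact hAy hc hj rfl
  have hsplit : ∑ c, (tVal f e m c : ℝ) ^ 3 / (x c : ℝ) =
      (∑ c ∈ A, (tVal f e m c : ℝ) ^ 3 / (x c : ℝ)) +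
        ∑ c ∈ J.image y, (tVal f e m c : ℝ) ^ 3 / (x c : ℝ) := by
    rw [← Finset.sum_union hyA]
    refine (Finset.sum_subset (Finset.subset_univ _) fun c _ hc => ?_).symm
    simp only [hA, Finset.mem_union, Finset.mem_filter, Finset.mem_univ, true_and,
      Finset.mem_image, not_or, not_not, not_exists, not_and] at hc
    rw [hTo c hc.1, Finset.sum_eq_zero fun j hj => by rw [if_neg fun h => hc.2 j hj h.symm, mul_zero]]
    simp
  have hbA : ∀ c ∈ A, tVal f e m c ≠ 0 → 8 ≤ |(f c : ℝ) * (x c : ℝ)| := fun c hc h0 => by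
    rw [L.abs_signed (hAne hc)]
    have := (hb c h0).1
    exact_mod_cast (by omega : (8 : ℤ) ≤ x c)
  have hm4 : m = 2 ∨ 4 ≤ m := by
    obtain ⟨k, hk, rfl⟩ := L.pow
    rcases eq_or_lt_of_le hk with h | h
    · subst h; simp
    · exact Or.inr (Nat.pow_le_pow_right two_pos h)
  by_cases hall : ∀ j ∈ J, p j = p 1
  · -- one pair
    have hyinj : ∀ j ∈ J, ∀ k ∈ J, y j = y k → j = k := fun j hj k hk h => by
      by_contra hne
      rcases L.pair_cases hp hj hk hne with h' | h'
      · exact h'.2 h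
      · have := h'.1
        rw [hall j hj, hall k hk, Finset.inter_self, (hp 1 h1J).2.1] at this
        omega
    obtain ⟨hp1, hpc, -, hs1, -⟩ := hp 1 h1J
    obtain ⟨a, b, hab, hpab⟩ := Finset.card_eq_two.1 hpc
    obtain ⟨q, r, hqr, hqrA⟩ := Finset.card_eq_two.1 (show (A \ p 1).card = 2 by
      rw [Finset.card_sdiff_of_subset hp1, hA4, hpc])
    have hout : ∀ c, c ∈ A \ p 1 → c ∈ A ∧ tVal f e m c = f c * (-1) := fun c hc => by
      obtain ⟨hcA, hcp⟩ := Finset.mem_sdiff.1 hc
      refine ⟨hcA, ?_⟩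
      rw [hTA c hcA, Finset.sum_eq_zero fun j hj => by rw [hall j hj, if_neg hcp, mul_zero]]
      ring
    have hin : ∀ c, c ∈ p 1 → c ∈ A ∧ tVal f e m c = f c * 1 := fun c hc => by
      refine ⟨hp1 hc, ?_⟩
      rw [hTA c (hp1 hc), Finset.sum_congr rfl (g := fun j => (-1 : ℤ) ^ j) fun j hj => by
        rw [hall j hj, if_pos hc, mul_one], L.sum_neg_one]
      ring
    have ha := hin a (by simp [hpab])
    have hb' := hin b (by simp [hpab])
    have hq := hout q (by simp [hqrA])
    have hr := hout r (by simp [hqrA])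
    set S : ℤ := s 1 * x (y 1)
    have hSj : ∀ j ∈ J, s j * x (y j) = S := fun j hj => by
      rw [show S = _ from hS 1 h1J, hS j hj, hall j hj]
    have hSne : S ≠ 0 := mul_ne_zero (by rcases hs1 with h | h <;> omega) (L.pos _).ne'
    have hSab : f a * x a + f b * x b = S := by
      rw [show S = _ from hS 1 h1J, hpab, Finset.sum_pair hab]
    have hSqr : f q * x q + f r * x r = -S := by
      have h := Finset.sum_sdiff (f := fun c => f c * x c) hp1
      rw [hfdeg, hqrA, Finset.sum_pair hqr, hpab, Finset.sum_pair hab] at h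
      linarith
    have hne : ∀ {c : ι} {t : ℤ}, c ∈ A → tVal f e m c = f c * t → t ≠ 0 → tVal f e m c ≠ 0 :=
      fun hc h ht => h ▸ mul_ne_zero (hAne hc) ht
    have hsumA : ∑ c ∈ A, (tVal f e m c : ℝ) ^ 3 / (x c : ℝ) =
        1 / ((f a : ℝ) * x a) + 1 / ((f b : ℝ) * x b) +
          (-1 / ((f q : ℝ) * x q) + -1 / ((f r : ℝ) * x r)) := by
      rw [← Finset.sum_sdiff hp1, hqrA, hpab, Finset.sum_pair hqr, Finset.sum_pair hab, ha.2, hb'.2,
        hq.2, hr.2, L.cube_div (hAne ha.1), L.cube_div (hAne hb'.1), L.cube_div (hAne hq.1),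
        L.cube_div (hAne hr.1)]
      push_cast
      ring
    have hTy : ∀ j ∈ J, tVal f e m (y j) = 2 * ((-1) ^ j * s j) := fun j hj => by
      rw [hTo _ (hp j hj).2.2.1, Finset.sum_eq_single_of_mem j hj fun k hk hkj => by
        rw [if_neg fun h => hkj (hyinj j hj k hk h).symm, mul_zero], if_pos rfl]
    have hRy : ∀ j ∈ J, rVal f e m (y j) = -2 * s j := fun j hj => by
      rw [hRo _ (hp j hj).2.2.1, Finset.sum_eq_single_of_mem j hj fun k hk hkj =>
        if_neg fun h => hkj (hyinj j hj k hk h).symm, if_pos rfl]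
    have hsumY : ∑ c ∈ J.image y, (tVal f e m c : ℝ) ^ 3 / (x c : ℝ) = -8 / (S : ℝ) := by
      rw [Finset.sum_image fun j hj k hk h => hyinj j hj k hk h,
        Finset.sum_congr rfl (g := fun j => ((((-1) ^ j : ℤ)) : ℝ) * (8 / (S : ℝ))) fun j hj => ?_,
        ← Finset.sum_mul, ← Int.cast_sum, L.sum_neg_one]
      · push_cast; ring
      rw [hTy j hj, ← hSj j hj]
      rcases (hp j hj).2.2.2.1 with h | h <;> rcases neg_one_pow_eq_or ℤ j with h' | h' <;>
        rw [h, h'] <;> push_cast <;> ring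
    have hneg : (S : ℝ) < 0 → 14 ≤ -(S : ℝ) := fun hlt => by
      have hlt' : S < 0 := by exact_mod_cast hlt
      have hs : s 1 = -1 := by
        rcases hs1 with h | h
        · exfalso
          rw [show S = s 1 * x (y 1) from rfl, h, one_mul] at hlt'
          linarith [L.pos (y 1)]
        · exact h
      have hT1 : tVal f e m (y 1) = 2 := by rw [hTy 1 h1J, hs]; norm_num
      have hR1 : rVal f e m (y 1) = 2 := by rw [hRy 1 h1J, hs]; norm_num
      have := (hb (y 1) (by rw [hT1]; norm_num)).2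
      rw [hT1, hR1] at this
      have hSx : S = -x (y 1) := by rw [show S = s 1 * x (y 1) from rfl, hs, neg_one_mul]
      exact_mod_cast (by omega : (14 : ℤ) ≤ -S)
    rw [hsplit, hsumA, hsumY]
    exact normal_le le_rfl (hbA a ha.1 (hne ha.1 ha.2 one_ne_zero))
      (hbA b hb'.1 (hne hb'.1 hb'.2 one_ne_zero)) (hbA q hq.1 (hne hq.1 hq.2 (by norm_num)))
      (hbA r hr.1 (hne hr.1 hr.2 (by norm_num))) (by exact_mod_cast hSab)
      (by rw [← neg_add, neg_eq_iff_eq_neg]; exact_mod_cast hSqr)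
      (Int.cast_ne_zero.2 hSne) hneg
  · -- three pairs and one further character
    push Not at hall
    obtain ⟨j₀, hj₀, hne₀⟩ := hall
    have hj1 : j₀ ≠ 1 := fun h => hne₀ (h ▸ rfl)
    have hdist : ∀ j ∈ J, ∀ k ∈ J, j ≠ k →
        (p j ∩ p k).card = 1 ∧ y j = y k ∧ s j = s k := by
      obtain ⟨-, hy01, -⟩ := (L.pair_cases hp hj₀ h1J hj1).resolve_left fun h => hne₀ h.1
      have hall' : ∀ l ∈ J, y l = y 1 := fun l hl => by
        by_cases h1 : l = 1
        · rw [h1]
        rcases L.pair_cases hp hl h1J h1 with h | h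
        · exfalso
          have hl0 : l ≠ j₀ := fun e => hne₀ (e ▸ h.1)
          rcases L.pair_cases hp hl hj₀ hl0 with h' | h'
          · exact hne₀ (h'.1.symm.trans h.1)
          · exact h.2 (h'.2.1.trans hy01)
        · exact h.2.1
      exact fun j hj k hk hjk => (L.pair_cases hp hj hk hjk).resolve_left fun h =>
        h.2 ((hall' j hj).trans (hall' k hk).symm)
    have hm : m = 4 := by
      rcases hm4 with h | h
      · exfalso
        have := Finset.mem_Ioo.1 hj₀
        omega
      by_contra hne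
      -- four pairwise meeting pairs would be needed
      have h5 : 5 ≤ m := by omega
      have h2J : 2 ∈ J := Finset.mem_Ioo.2 ⟨two_pos, by omega⟩
      have h3J : 3 ∈ J := Finset.mem_Ioo.2 ⟨by omega, by omega⟩
      have h4J : 4 ∈ J := Finset.mem_Ioo.2 ⟨by omega, by omega⟩
      have inj : ∀ {j k}, j ∈ J → k ∈ J → j ≠ k → p j ≠ p k := fun hj hk hjk h => by
        have := (hdist _ hj _ hk hjk).1
        rw [h, Finset.inter_self, (hp _ hk).2.1] at this
        omega
      obtain ⟨a, b, c, hab, hbc, hac, e1, e2, haA, hbA', hcA⟩ := inter_pair (hp 1 h1J).1 (hp 2 h2J).1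
        (hp 1 h1J).2.1 (hp 2 h2J).2.1 (hdist 1 h1J 2 h2J (by norm_num)).1
      obtain ⟨d, hd⟩ := Finset.card_eq_one.1 (show (A \ {a, b, c}).card = 1 by
        rw [Finset.card_sdiff_of_subset (by intro z hz; simp at hz; rcases hz with rfl | rfl | rfl <;> assumption),
          hA4]
        simp [hab, hbc, hac])
      have hkey : ∀ j ∈ J, j ≠ 1 → j ≠ 2 → p j = {b, d} ∨ p j = {c, a} := by
        intro j hj hj1' hj2
        obtain ⟨hjA, hjc, -⟩ := hp j hj
        have i1 := (hdist j hj 1 h1J hj1').1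
        have i2 := (hdist j hj 2 h2J hj2).1
        refine third_pair hab hbc hac (fun z hz => ?_) hjc (e1 ▸ i1) (e2 ▸ i2)
        by_contra hcon
        simp only [Finset.mem_insert, Finset.mem_singleton, not_or] at hcon
        have : z ∈ A \ {a, b, c} :=
          Finset.mem_sdiff.2 ⟨hjA hz, by simp [hcon.1, hcon.2.1, hcon.2.2.1]⟩
        rw [hd, Finset.mem_singleton] at this
        exact hcon.2.2.2 this
      have i34 := (hdist 3 h3J 4 h4J (by norm_num)).1
      have hdA : d ∈ A \ {a, b, c} := hd ▸ Finset.mem_singleton_self d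
      simp only [Finset.mem_sdiff, Finset.mem_insert, Finset.mem_singleton, not_or] at hdA
      obtain ⟨-, hda, hdb, hdc⟩ := hdA
      have n34 := inj h3J h4J (by norm_num)
      rcases hkey 3 h3J (by norm_num) (by norm_num) with h3 | h3 <;>
        rcases hkey 4 h4J (by norm_num) (by norm_num) with h4 | h4 <;> rw [h3, h4] at i34 n34
      · exact n34 rfl
      · rw [show ({b, d} : Finset ι) ∩ {c, a} = ∅ from Finset.disjoint_iff_inter_eq_empty.1
          (by simp [hbc, hdc, hab.symm, hda, Ne.symm hbc, Ne.symm hdc, hab, Ne.symm hda]), Finset.card_empty] at i34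
        omega
      · rw [show ({c, a} : Finset ι) ∩ {b, d} = ∅ from Finset.disjoint_iff_inter_eq_empty.1
          (by simp [hbc, hdc, hab.symm, hda, Ne.symm hbc, Ne.symm hdc, hab, Ne.symm hda]), Finset.card_empty] at i34
        omega
      · exact n34 rfl
    subst hm
    have hJ3 : J = {1, 2, 3} := by rw [hJ]; rfl
    have h2J : 2 ∈ J := by rw [hJ3]; decide
    have h3J : 3 ∈ J := by rw [hJ3]; decide
    obtain ⟨a, b, c, hab, hbc, hac, e1, e2, haA, hbA', hcA⟩ := inter_pair (hp 1 h1J).1 (hp 2 h2J).1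
      (hp 1 h1J).2.1 (hp 2 h2J).2.1 (hdist 1 h1J 2 h2J (by norm_num)).1
    obtain ⟨d, hd⟩ := Finset.card_eq_one.1 (show (A \ {a, b, c}).card = 1 by
      rw [Finset.card_sdiff_of_subset (by intro z hz; simp at hz; rcases hz with rfl | rfl | rfl <;> assumption),
        hA4]
      simp [hab, hbc, hac])
    have hdA : d ∈ A ∧ d ≠ a ∧ d ≠ b ∧ d ≠ c := by
      have : d ∈ A \ {a, b, c} := hd ▸ Finset.mem_singleton_self d
      simpa [Finset.mem_sdiff, not_or] using this
    obtain ⟨hdA, hda, hdb, hdc⟩ := hdA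
    have hAeq : A = {a, b, c, d} := by
      refine (Finset.eq_of_subset_of_card_le (fun z hz => ?_) ?_).symm
      · simp at hz; rcases hz with rfl | rfl | rfl | rfl <;> assumption
      · rw [hA4]; simp [hab, hbc, hac, hda.symm, hdb.symm, hdc.symm]
    have e3 : p 3 = {b, d} ∨ p 3 = {c, a} := by
      obtain ⟨hjA, hjc, -⟩ := hp 3 h3J
      have i1 := (hdist 3 h3J 1 h1J (by norm_num)).1
      have i2 := (hdist 3 h3J 2 h2J (by norm_num)).1
      exact third_pair hab hbc hac (hAeq ▸ hjA) hjc (e1 ▸ i1) (e2 ▸ i2)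
    have hy2 : y 2 = y 1 := (hdist 2 h2J 1 h1J (by norm_num)).2.1
    have hy3 : y 3 = y 1 := (hdist 3 h3J 1 h1J (by norm_num)).2.1
    have hs2 : s 2 = s 1 := (hdist 2 h2J 1 h1J (by norm_num)).2.2
    have hs3 : s 3 = s 1 := (hdist 3 h3J 1 h1J (by norm_num)).2.2
    have himg : J.image y = {y 1} := by
      rw [hJ3]
      simp [hy2, hy3]
    have hTy : tVal f e 4 (y 1) = -2 * s 1 := by
      rw [hTo _ (hp 1 h1J).2.2.1, hJ3]
      simp [hy2, hy3, hs2, hs3]
    have hS1 := hS 1 h1J
    have hS2 := hS 2 h2J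
    have hS3 := hS 3 h3J
    rw [e1, Finset.sum_pair hab] at hS1
    rw [e2, Finset.sum_pair hbc, hs2, hy2] at hS2
    rw [hs3, hy3] at hS3
    have hdeg := hfdeg
    rw [hAeq, Finset.sum_insert (by simp [hab, hac, hda.symm]),
      Finset.sum_insert (by simp [hbc, hdb.symm]), Finset.sum_pair hdc.symm] at hdeg
    set S : ℤ := s 1 * x (y 1) with hSdef
    have hSne : S ≠ 0 :=
      mul_ne_zero (by rcases (hp 1 h1J).2.2.2.1 with h | h <;> omega) (L.pos _).ne'
    have hY : ((-2 * s 1 : ℤ) : ℝ) ^ 3 / (x (y 1) : ℝ) = -8 / (S : ℝ) := by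
      rw [hSdef]
      rcases (hp 1 h1J).2.2.2.1 with h | h <;> rw [h] <;> push_cast <;> ring
    rw [hsplit, himg, Finset.sum_singleton, hTy, hY, hAeq,
      Finset.sum_insert (by simp [hab, hac, hda.symm]), Finset.sum_insert (by simp [hbc, hdb.symm]),
      Finset.sum_pair hdc.symm]
    rcases e3 with e3 | e3 <;> rw [e3] at hS3
    · -- the three pairs have a common member
      rw [Finset.sum_pair hdb.symm] at hS3
      have za : 2 * (f a * x a) = -S := by linarith
      have zb : 2 * (f b * x b) = 3 * S := by linarith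
      have zc : 2 * (f c * x c) = -S := by linarith
      have zd : 2 * (f d * x d) = -S := by linarith
      have ta : tVal f e 4 a = f a * 1 := by
        rw [hTA a haA, hJ3]; simp [e1, e2, e3, hab, hac, hda.symm]
      have tb : tVal f e 4 b = f b * 1 := by
        rw [hTA b hbA', hJ3]; simp [e1, e2, e3, hab.symm, hbc, hdb.symm]
      have tc : tVal f e 4 c = f c * -3 := by
        rw [hTA c hcA, hJ3]; simp [e1, e2, e3, hbc.symm, hac.symm, hdc.symm]
      have td : tVal f e 4 d = f d * 1 := by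
        rw [hTA d hdA, hJ3]; simp [e1, e2, e3, hda, hdb, hdc]
      have rc : rVal f e 4 c = f c * 3 := by
        rw [hRA c hcA, hJ3, Finset.sum_insert (by decide), Finset.sum_insert (by decide),
          Finset.sum_singleton]
        simp [e1, e2, e3, hbc.symm, hac.symm, hdc.symm]
      have hpos : (0 : ℝ) < S → 70 ≤ (S : ℝ) := fun h => by
        have hS0 : 0 < S := by exact_mod_cast h
        have hfc : f c = -1 := by
          rcases L.f_sign c with h | h | h
          · exact h
          · rw [h] at zc; omega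
          · rw [h] at zc; have := L.pos c; omega
        have := (hb c (by rw [tc, hfc]; norm_num)).2
        rw [tc, rc, hfc] at this
        rw [hfc] at zc
        exact_mod_cast (by omega : (70 : ℤ) ≤ S)
      rw [ta, tb, tc, td, L.cube_div (hAne haA), L.cube_div (hAne hbA'), L.cube_div (hAne hcA),
        L.cube_div (hAne hdA)]
      have hSr : (S : ℝ) ≠ 0 := Int.cast_ne_zero.2 hSne
      have za' : (f a : ℝ) * x a = -(S : ℝ) / 2 := by
        have : 2 * ((f a : ℝ) * x a) = -(S : ℝ) := by exact_mod_cast za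
        linarith
      have zb' : (f b : ℝ) * x b = 3 * (S : ℝ) / 2 := by
        have : 2 * ((f b : ℝ) * x b) = 3 * (S : ℝ) := by exact_mod_cast zb
        linarith
      have zc' : (f c : ℝ) * x c = -(S : ℝ) / 2 := by
        have : 2 * ((f c : ℝ) * x c) = -(S : ℝ) := by exact_mod_cast zc
        linarith
      have zd' : (f d : ℝ) * x d = -(S : ℝ) / 2 := by
        have : 2 * ((f d : ℝ) * x d) = -(S : ℝ) := by exact_mod_cast zd
        linarith
      rw [za', zb', zc', zd']
      refine le_of_eq_of_le ?_ (exotic_le hpos)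
      push_cast
      field_simp
      ring
    · -- a triangle
      rw [Finset.sum_pair hac.symm] at hS3
      have za : 2 * (f a * x a) = S := by linarith
      have zb : 2 * (f b * x b) = S := by linarith
      have zc : 2 * (f c * x c) = S := by linarith
      have zd : 2 * (f d * x d) = -3 * S := by linarith
      have ta : tVal f e 4 a = f a * 3 := by
        rw [hTA a haA, hJ3]; simp [e1, e2, e3, hab, hac]
      have tb : tVal f e 4 b = f b * -1 := by
        rw [hTA b hbA', hJ3]; simp [e1, e2, e3, hab.symm, hbc]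
      have tc : tVal f e 4 c = f c * -1 := by
        rw [hTA c hcA, hJ3]; simp [e1, e2, e3, hbc.symm, hac.symm]
      have td : tVal f e 4 d = f d * -1 := by
        rw [hTA d hdA, hJ3]; simp [e1, e2, e3, hda, hdb, hdc]
      have ra : rVal f e 4 a = f a * 5 := by
        rw [hRA a haA, hJ3, Finset.sum_insert (by decide), Finset.sum_insert (by decide),
          Finset.sum_singleton]
        simp [e1, e2, e3, hab, hac]
      have hpos : (0 : ℝ) < S → 70 ≤ (S : ℝ) := fun h => by
        have hS0 : 0 < S := by exact_mod_cast h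
        have hfa : f a = 1 := by
          rcases L.f_sign a with h | h | h
          · rw [h] at za; have := L.pos a; omega
          · rw [h] at za; omega
          · exact h
        have := (hb a (by rw [ta, hfa]; norm_num)).2
        rw [ta, ra, hfa] at this
        rw [hfa] at za
        exact_mod_cast (by omega : (70 : ℤ) ≤ S)
      rw [ta, tb, tc, td, L.cube_div (hAne haA), L.cube_div (hAne hbA'), L.cube_div (hAne hcA),
        L.cube_div (hAne hdA)]
      have hSr : (S : ℝ) ≠ 0 := Int.cast_ne_zero.2 hSne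
      have za' : (f a : ℝ) * x a = (S : ℝ) / 2 := by
        have : 2 * ((f a : ℝ) * x a) = (S : ℝ) := by exact_mod_cast za
        linarith
      have zb' : (f b : ℝ) * x b = (S : ℝ) / 2 := by
        have : 2 * ((f b : ℝ) * x b) = (S : ℝ) := by exact_mod_cast zb
        linarith
      have zc' : (f c : ℝ) * x c = (S : ℝ) / 2 := by
        have : 2 * ((f c : ℝ) * x c) = (S : ℝ) := by exact_mod_cast zc
        linarith
      have zd' : (f d : ℝ) * x d = -3 * (S : ℝ) / 2 := by
        have : 2 * ((f d : ℝ) * x d) = -3 * (S : ℝ) := by exact_mod_cast zd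
        linarith
      rw [za', zb', zc', zd']
      refine le_of_eq_of_le ?_ (exotic_le hpos)
      push_cast
      field_simp
      ring

end Lat

end Cfsg.Agent.GW.StableLinear
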