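import Mathlib
import Cfsg.Agent.Lib.GW.StableLinear.Columns
import Cfsg.Agent.Lib.GW.StableLinear.Shape

/-!
# The twisted lattice of a stable linear character
-/

set_option autoImplicit false
set_option linter.style.haveILetI false
set_option linter.unusedSectionVars false

namespace Cfsg.Agent.GW.StableLinear

open Cfsg.Agent.Blocks Cfsg.Agent.Characters Cfsg.Agent.CharTheory.DihedralPrincipal
open scoped ComplexConjugate Classical

universe u

variable {G : Type u} [Group G] [Fintype G] [Fintype (Cfsg.IrrCharacter G)]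
  {P : Sylow 2 G} {σ τ : G} {m : ℕ} {θ : Subgroup.centralizer ({σ ^ m} : Set G) →* ℂˣ}
  {M : Ideal Cfsg.AlgInt} {ζ : ℂ} {c1 c2 c3 : Cfsg.IrrCharacter G} {d1 d2 d3 : ℤ}
  {X : ℕ → Cfsg.IrrCharacter G}

/-- `1 + δ₁χ₁ + δ₂χ₂ + δ₃χ₃`. -/
noncomputable def fourFun (c1 c2 c3 : Cfsg.IrrCharacter G) (d1 d2 d3 : ℤ) : G → ℂ :=
  (trivIrr G : G → ℂ) + (d1 : ℂ) • (c1 : G → ℂ) + (d2 : ℂ) • (c2 : G → ℂ) + (d3 : ℂ) • (c3 : G → ℂ)

/-- `δ₁χ^{(j)} - 1 - δ₁χ₁`. -/
noncomputable def excFun (c1 : Cfsg.IrrCharacter G) (d1 : ℤ) (X : ℕ → Cfsg.IrrCharacter G) (j : ℕ) :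
    G → ℂ :=
  (d1 : ℂ) • (X j : G → ℂ) - (trivIrr G : G → ℂ) - (d1 : ℂ) • (c1 : G → ℂ)

theorem sum_prin (T : Principal (G := G) σ m M ζ c1 c2 c3 d1 d2 d3 X)
    (φ : Cfsg.IrrCharacter G → ℂ) :
    ∑ ψ ∈ prin (G := G) M, φ ψ = φ (trivIrr G) + φ c1 + φ c2 + φ c3 +
      ∑ j ∈ Finset.Ioo 0 m, φ (X j) := by
  have e : prin (G := G) M = insert (trivIrr G) (insert c1 (insert c2 (insert c3
      ((Finset.Ioo 0 m).image X)))) := by
    ext ψ
    rw [mem_prin, T.mem]
    simp only [Finset.mem_insert, Finset.mem_image, Finset.mem_Ioo]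
    constructor
    · rintro (h | h | h | h | ⟨j, h1, h2, h3⟩)
      exacts [Or.inl h, Or.inr (Or.inl h), Or.inr (Or.inr (Or.inl h)),
        Or.inr (Or.inr (Or.inr (Or.inl h))), Or.inr (Or.inr (Or.inr (Or.inr ⟨j, ⟨h1, h2⟩, h3.symm⟩)))]
    · rintro (h | h | h | h | ⟨j, ⟨h1, h2⟩, h3⟩)
      exacts [Or.inl h, Or.inr (Or.inl h), Or.inr (Or.inr (Or.inl h)),
        Or.inr (Or.inr (Or.inr (Or.inl h))), Or.inr (Or.inr (Or.inr (Or.inr ⟨j, h1, h2, h3.symm⟩)))]
  have hX : ∀ c, (c = trivIrr G ∨ c = c1 ∨ c = c2 ∨ c = c3) → c ∉ (Finset.Ioo 0 m).image X := by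
    intro c hc hmem
    obtain ⟨j, hj, rfl⟩ := Finset.mem_image.1 hmem
    obtain ⟨h1, h2⟩ := Finset.mem_Ioo.1 hj
    obtain ⟨a, b, c', d⟩ := T.X_ne j h1 h2
    tauto
  rw [e, Finset.sum_insert, Finset.sum_insert, Finset.sum_insert, Finset.sum_insert,
    Finset.sum_image fun j hj k hk h => T.X_inj j k (Finset.mem_Ioo.1 hj).1 (Finset.mem_Ioo.1 hj).2
      (Finset.mem_Ioo.1 hk).1 (Finset.mem_Ioo.1 hk).2 h]
  · ring
  · exact hX c3 (by tauto)
  · simp only [Finset.mem_insert, not_or]; exact ⟨T.ne23, hX c2 (by tauto)⟩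
  · simp only [Finset.mem_insert, not_or]; exact ⟨T.ne12, T.ne13, hX c1 (by tauto)⟩
  · simp only [Finset.mem_insert, not_or]
    exact ⟨T.ne1.symm, T.ne2.symm, T.ne3.symm, hX _ (Or.inl rfl)⟩

theorem sum_neg_one_pow (h : DihSylow P σ τ m) :
    ∑ j ∈ Finset.Ioo 0 m, (-1 : ℂ) ^ j = -1 :=
  sum_neg_one_Ioo h.pos (Nat.mod_eq_zero_of_dvd h.even)

/-- The column of the central involution. -/
theorem colFun_J (h : DihSylow P σ τ m) (hζ : IsPrimitiveRoot ζ (2 * m))
    (T : Principal (G := G) σ m M ζ c1 c2 c3 d1 d2 d3 X) (g : G) :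
    colFun M (σ ^ m) g = -fourFun c1 c2 c3 d1 d2 d3 g +
      2 * ∑ j ∈ Finset.Ioo 0 m, (-1 : ℂ) ^ j * excFun c1 d1 X j g := by
  have hm := h.pos
  have hodd : (-1 : ℂ) ^ (m + 1) = -1 := by
    rw [pow_succ, (even_iff_two_dvd.2 h.even).neg_one_pow, one_mul]
  rw [colFun, sum_prin T, T.val1 m hm (by omega), T.val2 m hm (by omega), T.val3 m hm (by omega),
    hodd, Finset.sum_congr rfl (g := fun j => 2 * ((-1 : ℂ) ^ j * ((d1 : ℂ) * (X j : G → ℂ) g)))
      fun j hj => by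
        rw [T.valX j (Finset.mem_Ioo.1 hj).1 (Finset.mem_Ioo.1 hj).2 m hm (by omega), gv_half hζ hm]
        ring]
  simp only [fourFun, excFun, Pi.add_apply, Pi.sub_apply, Pi.smul_apply, smul_eq_mul, trivIrr_coe,
    mul_sub, Finset.sum_sub_distrib, ← Finset.mul_sum, ← Finset.sum_mul, sum_neg_one_pow h]
  ring

/-- The sum of the columns of the nontrivial rotations. -/
theorem colFun_rot (h : DihSylow P σ τ m) (hζ : IsPrimitiveRoot ζ (2 * m))
    (T : Principal (G := G) σ m M ζ c1 c2 c3 d1 d2 d3 X) (g : G) :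
    ∑ l ∈ Finset.Ioo 0 (2 * m), colFun M (σ ^ l) g = fourFun c1 c2 c3 d1 d2 d3 g -
      2 * ∑ j ∈ Finset.Ioo 0 m, excFun c1 d1 X j g := by
  have hm := h.pos
  have hins : Finset.range (2 * m) = insert 0 (Finset.Ioo 0 (2 * m)) := by
    ext j; simp only [Finset.mem_range, Finset.mem_insert, Finset.mem_Ioo]; omega
  have hgv : ∀ j ∈ Finset.Ioo 0 m, ∑ l ∈ Finset.Ioo 0 (2 * m), gv ζ j l = -2 := by
    intro j hj
    obtain ⟨h1, h2⟩ := Finset.mem_Ioo.1 hj
    have e := sum_gv_mul hζ hm h2.le (Nat.zero_le m)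
    rw [if_neg (by omega)] at e
    have h0 : ∀ l, gv ζ 0 l = 2 := fun l => by
      simp only [gv, zero_mul, pow_zero, inv_one]; norm_num
    simp only [h0, ← Finset.sum_mul] at e
    rw [hins, Finset.sum_insert (by simp), gv_zero_right hζ] at e
    linear_combination e / 2
  have hneg : ∑ l ∈ Finset.Ioo 0 (2 * m), (-1 : ℂ) ^ (l + 1) = 1 := by
    have e : ∑ l ∈ Finset.range (2 * m), (-1 : ℂ) ^ l = 0 := by
      rw [neg_one_geom_sum, if_pos (even_two_mul m)]
    rw [hins, Finset.sum_insert (by simp), pow_zero] at e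
    simp only [pow_succ, ← Finset.sum_mul]
    linear_combination -e
  have hmm : ((m - 1 : ℕ) : ℂ) = (m : ℂ) - 1 := by rw [Nat.cast_sub hm, Nat.cast_one]
  have h2mm : ((2 * m - 1 : ℕ) : ℂ) = 2 * (m : ℂ) - 1 := by
    rw [Nat.cast_sub (by omega)]; push_cast; ring
  rw [Finset.sum_congr rfl (g := fun l => 1 + (d1 : ℂ) * (c1 : G → ℂ) g +
      (-1 : ℂ) ^ (l + 1) * ((d2 : ℂ) * (c2 : G → ℂ) g + (d3 : ℂ) * (c3 : G → ℂ) g) +
      ∑ j ∈ Finset.Ioo 0 m, gv ζ j l * ((d1 : ℂ) * (X j : G → ℂ) g)) fun l hl => ?_]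
  · rw [Finset.sum_add_distrib, Finset.sum_add_distrib, ← Finset.sum_mul, hneg, Finset.sum_const,
      Finset.sum_comm, Finset.sum_congr rfl (g := fun j => -2 * ((d1 : ℂ) * (X j : G → ℂ) g))
        fun j hj => by rw [← Finset.sum_mul, hgv j hj], Nat.card_Ioo, nsmul_eq_mul,
      show 2 * m - 0 - 1 = 2 * m - 1 by omega, h2mm]
    simp only [fourFun, excFun, Pi.add_apply, Pi.sub_apply, Pi.smul_apply, smul_eq_mul, trivIrr_coe,
      mul_sub, Finset.sum_sub_distrib, Finset.sum_const, Nat.card_Ioo, nsmul_eq_mul,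
      ← Finset.mul_sum, show m - 0 - 1 = m - 1 by omega, hmm]
    ring
  · obtain ⟨h1, h2⟩ := Finset.mem_Ioo.1 hl
    rw [colFun, sum_prin T, T.val1 l h1 h2, T.val2 l h1 h2, T.val3 l h1 h2,
      Finset.sum_congr rfl (g := fun j => gv ζ j l * ((d1 : ℂ) * (X j : G → ℂ) g)) fun j hj => by
        rw [T.valX j (Finset.mem_Ioo.1 hj).1 (Finset.mem_Ioo.1 hj).2 l h1 h2]; ring]
    simp only [trivIrr_coe]
    ring

theorem isGen_fourFun : Cfsg.IsGeneralizedCharacter G (fourFun c1 c2 c3 d1 d2 d3) :=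
  isGen_add (isGen_add (isGen_add (isGen_of_isCharacter (irr_isCharacter _))
    (isGen_intSmul (isGen_of_isCharacter (irr_isCharacter c1)) d1))
    (isGen_intSmul (isGen_of_isCharacter (irr_isCharacter c2)) d2))
    (isGen_intSmul (isGen_of_isCharacter (irr_isCharacter c3)) d3)

theorem isGen_excFun (j : ℕ) : Cfsg.IsGeneralizedCharacter G (excFun c1 d1 X j) :=
  isGen_sub (isGen_sub (isGen_intSmul (isGen_of_isCharacter (irr_isCharacter (X j))) d1)
    (isGen_of_isCharacter (irr_isCharacter _)))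
    (isGen_intSmul (isGen_of_isCharacter (irr_isCharacter c1)) d1)

theorem gram (T : Principal (G := G) σ m M ζ c1 c2 c3 d1 d2 d3 X) :
    Cfsg.classInner (fourFun c1 c2 c3 d1 d2 d3) (fourFun c1 c2 c3 d1 d2 d3) = 4 ∧
    (∀ j ∈ Finset.Ioo 0 m, Cfsg.classInner (fourFun c1 c2 c3 d1 d2 d3) (excFun c1 d1 X j) = -2) ∧
    ∀ j ∈ Finset.Ioo 0 m, ∀ k ∈ Finset.Ioo 0 m,
      Cfsg.classInner (excFun c1 d1 X j) (excFun c1 d1 X k) = if j = k then 3 else 2 := by
  have e1 : (d1 : ℂ) * d1 = 1 := by exact_mod_cast T.sq1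
  have e2 : (d2 : ℂ) * d2 = 1 := by exact_mod_cast T.sq2
  have e3 : (d3 : ℂ) * d3 = 1 := by exact_mod_cast T.sq3
  refine ⟨?_, fun j hj => ?_, fun j hj k hk => ?_⟩
  · simp only [fourFun, classInner_add_left, classInner_add_right, classInner_smul_left,
      classInner_smul_right, classInner_irr, map_intCast, T.ne1, T.ne2, T.ne3,
      T.ne1.symm, T.ne2.symm, T.ne3.symm, T.ne12, T.ne13, T.ne23, T.ne12.symm, T.ne13.symm,
      T.ne23.symm, if_true, if_false]
    linear_combination e1 + e2 + e3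
  · obtain ⟨h1, h2⟩ := Finset.mem_Ioo.1 hj
    obtain ⟨a, b, c, d⟩ := T.X_ne j h1 h2
    simp only [fourFun, excFun, classInner_add_left, classInner_sub_right, classInner_smul_left,
      classInner_smul_right, classInner_irr, map_intCast, T.ne1, T.ne2, T.ne3,
      T.ne1.symm, T.ne12, T.ne12.symm, T.ne13, T.ne13.symm, a.symm, b.symm, c.symm, d.symm,
      if_true, if_false]
    linear_combination -e1
  · obtain ⟨h1, h2⟩ := Finset.mem_Ioo.1 hj
    obtain ⟨h3, h4⟩ := Finset.mem_Ioo.1 hk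
    obtain ⟨a, b, -, -⟩ := T.X_ne j h1 h2
    obtain ⟨a', b', -, -⟩ := T.X_ne k h3 h4
    simp only [excFun, classInner_sub_left, classInner_sub_right, classInner_smul_left,
      classInner_smul_right, classInner_irr, map_intCast, T.ne1, T.ne1.symm,
      a, b, a'.symm, b'.symm, if_true, if_false]
    by_cases hjk : j = k
    · subst hjk
      simp only [if_true]
      linear_combination 2 * e1
    · rw [if_neg fun e => hjk (T.X_inj j k h1 h2 h3 h4 e), if_neg hjk]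
      linear_combination e1

/-- The lattice of the twisted functions. -/
theorem exists_lat (hM : Cfsg.IsPModular 2 M) (hS : Stable P σ τ m θ)
    (hζ : IsPrimitiveRoot ζ (2 * m)) (T : Principal (G := G) σ m M ζ c1 c2 c3 d1 d2 d3 X) :
    ∃ (f : Cfsg.IrrCharacter G → ℤ) (e : ℕ → Cfsg.IrrCharacter G → ℤ)
      (x : Cfsg.IrrCharacter G → ℤ), Lat f e x m ∧ (∀ χ : Cfsg.IrrCharacter G, (χ : G → ℂ) 1 = (x χ : ℂ)) ∧
      (∀ χ : Cfsg.IrrCharacter G, avgReg θ (χ : G → ℂ) (σ ^ m) = (tVal f e m χ : ℂ)) ∧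
      ∀ χ : Cfsg.IrrCharacter G,
        ∑ l ∈ Finset.Ioo 0 (2 * m), avgReg θ (χ : G → ℂ) (σ ^ l) = (rVal f e m χ : ℂ) := by
  have hh := hS.dih
  have hFreg : ∀ g : G, ¬ 2 ∣ orderOf g → fourFun c1 c2 c3 d1 d2 d3 g = 0 := fun g hg => by
    simpa [fourFun] using (T.reg g hg).1
  have hEreg : ∀ j ∈ Finset.Ioo 0 m, ∀ g : G, ¬ 2 ∣ orderOf g → excFun c1 d1 X j g = 0 :=
    fun j hj g hg => by
      simp [excFun, (T.reg g hg).2 j (Finset.mem_Ioo.1 hj).1 (Finset.mem_Ioo.1 hj).2]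
  set F : G → ℂ := fun g => tw θ g * fourFun c1 c2 c3 d1 d2 d3 g with hF
  set E : ℕ → G → ℂ := fun j g => tw θ g * (if j ∈ Finset.Ioo 0 m then excFun c1 d1 X j g else 0)
    with hE
  have hFg : Cfsg.IsGeneralizedCharacter G F := isGen_tw_mul hS isGen_fourFun hFreg
  have hEg : ∀ j, Cfsg.IsGeneralizedCharacter G (E j) := fun j => by
    by_cases hj : j ∈ Finset.Ioo 0 m
    · rw [show E j = fun g => tw θ g * excFun c1 d1 X j g by funext g; simp only [hE, if_pos hj]]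
      exact isGen_tw_mul hS (isGen_excFun j) (hEreg j hj)
    · rw [show E j = 0 by funext g; simp only [hE, if_neg hj, mul_zero, Pi.zero_apply]]
      exact isGen_zero
  have hf : ∀ χ : Cfsg.IrrCharacter G, ∃ z : ℤ, Cfsg.classInner F (χ : G → ℂ) = (z : ℂ) := fun χ =>
    classInner_gen_int hFg (isGen_of_isCharacter (irr_isCharacter χ))
  have he : ∀ j, ∀ χ : Cfsg.IrrCharacter G, ∃ z : ℤ, Cfsg.classInner (E j) (χ : G → ℂ) = (z : ℂ) :=
    fun j χ => classInner_gen_int (hEg j) (isGen_of_isCharacter (irr_isCharacter χ))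
  choose f hf using hf
  choose e he using he
  set x : Cfsg.IrrCharacter G → ℤ := fun χ => (Cfsg.charDegree (χ : G → ℂ) : ℤ) with hx
  have hx1 : ∀ χ : Cfsg.IrrCharacter G, (χ : G → ℂ) 1 = (x χ : ℂ) := fun χ => by
    rw [← charDegree_cast χ]; simp [hx]
  have hdot : ∀ {φ ψ : G → ℂ} {a b : Cfsg.IrrCharacter G → ℤ},
      Cfsg.IsGeneralizedCharacter G φ → (∀ χ : Cfsg.IrrCharacter G, Cfsg.classInner φ (χ : G → ℂ) = (a χ : ℂ)) →
      (∀ χ : Cfsg.IrrCharacter G, Cfsg.classInner ψ (χ : G → ℂ) = (b χ : ℂ)) →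
      Cfsg.classInner φ ψ = ((∑ χ, a χ * b χ : ℤ) : ℂ) := by
    intro φ ψ a b hφ ha hb
    rw [classInner_eq_sum ψ (isGen_isClassFunction hφ), Int.cast_sum]
    refine Finset.sum_congr rfl fun χ _ => ?_
    rw [ha, classInner_conj_symm ψ (χ : G → ℂ), hb, map_intCast, Int.cast_mul]
  have hone : ∀ {φ : G → ℂ} {a : Cfsg.IrrCharacter G → ℤ}, Cfsg.IsGeneralizedCharacter G φ →
      (∀ χ : Cfsg.IrrCharacter G, Cfsg.classInner φ (χ : G → ℂ) = (a χ : ℂ)) →
      φ 1 = 0 → ∑ χ, a χ * x χ = 0 := by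
    intro φ a hφ ha h0
    have := congrFun (classFun_eq_sum (isGen_isClassFunction hφ)) 1
    simp only [Finset.sum_apply, Pi.smul_apply, smul_eq_mul, ha, hx1, h0] at this
    exact_mod_cast this.symm
  obtain ⟨g1, g2, g3⟩ := gram T
  have h1reg : ¬ 2 ∣ orderOf (1 : G) := by simp
  refine ⟨f, e, x, ⟨?_, fun χ => ?_, ?_, fun j hj => ?_, fun j hj k hk hjk => ?_, fun j hj => ?_,
    ?_, fun j hj => ?_⟩, hx1, fun χ => ?_, fun χ => ?_⟩
  · obtain ⟨k, hk⟩ := hh.m_pow
    refine ⟨k, ?_, hk⟩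
    have := hh.two_le
    rcases k with _ | k
    · rw [pow_zero] at hk; omega
    · omega
  · simp only [hx]; exact_mod_cast charDegree_pos χ
  · have := hdot hFg hf hf
    rw [classInner_tw, g1] at this
    exact_mod_cast this.symm
  · have := hdot (hEg j) (he j) (he j)
    simp only [hE, if_pos hj] at this
    rw [classInner_tw, g3 j hj j hj, if_pos rfl] at this
    exact_mod_cast this.symm
  · have := hdot (hEg j) (he j) (he k)
    simp only [hE, if_pos hj, if_pos hk] at this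
    rw [classInner_tw, g3 j hj k hk, if_neg hjk] at this
    exact_mod_cast this.symm
  · have := hdot hFg hf (he j)
    simp only [hF, hE, if_pos hj] at this
    rw [classInner_tw, g2 j hj] at this
    exact_mod_cast this.symm
  · exact hone hFg hf (by simp [hF, hFreg 1 h1reg])
  · exact hone (hEg j) (he j) (by simp [hE, hj, hEreg j hj 1 h1reg])
  · have hcol : (fun g => tw θ g * colFun M (σ ^ m) g) =
        (-1 : ℂ) • F + (2 : ℂ) • ∑ j ∈ Finset.Ioo 0 m, ((-1 : ℂ) ^ j) • E j := by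
      funext g
      simp only [Pi.add_apply, Pi.smul_apply, smul_eq_mul, Finset.sum_apply, hF]
      have hs : ∑ j ∈ Finset.Ioo 0 m, (-1 : ℂ) ^ j * E j g =
          tw θ g * ∑ j ∈ Finset.Ioo 0 m, (-1 : ℂ) ^ j * excFun c1 d1 X j g := by
        rw [Finset.mul_sum]
        exact Finset.sum_congr rfl fun j hj => by simp only [hE, if_pos hj]; ring
      rw [colFun_J hh hζ T g, hs]
      ring
    rw [← classInner_col hM hS (irr_isClassFunction χ) (pow_mem (Subgroup.mem_zpowers σ) m) hh.J_ne_one,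
      hcol, classInner_conj_symm]
    simp only [classInner_add_left, classInner_smul_left, classInner_sum_left, hf, he, tVal,
      map_add, map_mul, map_sum, map_pow, map_neg, map_one, map_ofNat, map_intCast]
    push_cast
    ring
  · have hcol : ∀ g, ∑ l ∈ Finset.Ioo 0 (2 * m), tw θ g * colFun M (σ ^ l) g =
        (F + (-2 : ℂ) • ∑ j ∈ Finset.Ioo 0 m, E j) g := by
      intro g
      simp only [Pi.add_apply, Pi.smul_apply, smul_eq_mul, Finset.sum_apply, hF]
      have hs : ∑ j ∈ Finset.Ioo 0 m, E j g =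
          tw θ g * ∑ j ∈ Finset.Ioo 0 m, excFun c1 d1 X j g := by
        rw [Finset.mul_sum]
        exact Finset.sum_congr rfl fun j hj => by simp only [hE, if_pos hj]
      rw [← Finset.mul_sum, colFun_rot hh hζ T g, hs]
      ring
    have hne : ∀ l ∈ Finset.Ioo 0 (2 * m), σ ^ l ≠ 1 := fun l hl e' => by
      obtain ⟨h1, h2⟩ := Finset.mem_Ioo.1 hl
      have := hh.pow_inj h2 (by linarith [hh.pos]) (e'.trans (pow_zero σ).symm)
      omega
    rw [Finset.sum_congr rfl fun l hl => (classInner_col hM hS (irr_isClassFunction χ)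
      (pow_mem (Subgroup.mem_zpowers σ) l) (hne l hl)).symm, ← classInner_sum_right,
      show (∑ l ∈ Finset.Ioo 0 (2 * m), fun g => tw θ g * colFun M (σ ^ l) g) =
        F + (-2 : ℂ) • ∑ j ∈ Finset.Ioo 0 m, E j from funext fun g => by
          rw [Finset.sum_apply]; exact hcol g,
      classInner_conj_symm]
    simp only [classInner_add_left, classInner_smul_left, classInner_sum_left, hf, he, rVal,
      map_add, map_mul, map_sum, map_neg, map_ofNat, map_intCast]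
    push_cast
    ring

end Cfsg.Agent.GW.StableLinear
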