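import Mathlib
import Cfsg.Agent.Lib.GW.StableLinear.Vectors
import Cfsg.Agent.Lib.GW.StableLinear.Mult
import Cfsg.Agent.Lib.GW.StableLinear.Count
import Cfsg.Agent.Lib.GW.S3287FourChar
import Cfsg.Agent.Lib.Perm.UniqueP.Modular

/-!
# No stable linear character of the centralizer of an involution

In a simple group with dihedral Sylow `2`-subgroups of order at least `8`, a stable linear character
of the centralizer of an involution is trivial on the odd elements centralizing the Sylow subgroup.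
-/

set_option autoImplicit false
set_option linter.style.haveILetI false
set_option linter.unusedSectionVars false

namespace Cfsg.Agent.GW.StableLinear

open Cfsg.Agent.Blocks Cfsg.Agent.Characters Cfsg.Agent.CharTheory.DihedralPrincipal
open scoped ComplexConjugate Classical

universe u

variable {G : Type u} [Group G] [Fintype G] [Fintype (Cfsg.IrrCharacter G)]
  {P : Sylow 2 G} {σ τ : G} {m : ℕ} {θ : Subgroup.centralizer ({σ ^ m} : Set G) →* ℂˣ}
  {M : Ideal Cfsg.AlgInt} {B : Set (Cfsg.IrrCharacter G)}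

/-- The linear character trivial on the rotations and `-1` on the reflections. -/
theorem exists_signChar (h : DihSylow P σ τ m) : ∃ η : (P : Subgroup G) →* ℂˣ,
    ∀ v : (P : Subgroup G), (η v : ℂ) = if (v : G) ∈ Subgroup.zpowers σ then 1 else -1 := by
  set N := (Subgroup.zpowers σ).subgroupOf (P : Subgroup G)
  have hle : Subgroup.zpowers σ ≤ (P : Subgroup G) := Subgroup.zpowers_le.2 h.σ_mem
  have hidx : N.index = 2 := by
    have h1 := N.card_mul_index
    rw [Nat.card_congr (Subgroup.subgroupOfEquivOfLe hle).toEquiv, Nat.card_zpowers, h.order_σ,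
      h.card_sylow] at h1
    exact Nat.eq_of_mul_eq_mul_left (show 0 < 2 * m by linarith [h.pos]) (by linarith)
  refine ⟨MonoidHom.mk' (fun v => if v ∈ N then (1 : ℂˣ) else -1) fun a b => ?_, fun v => ?_⟩
  · have hab := Subgroup.mul_mem_iff_of_index_two hidx (a := a) (b := b)
    by_cases ha : a ∈ N <;> by_cases hb : b ∈ N <;> simp [ha, hb] at hab ⊢ <;> simp [hab]
  · show ((if v ∈ N then (1 : ℂˣ) else -1 : ℂˣ) : ℂ) = _
    simp only [N, Subgroup.mem_subgroupOf]
    split_ifs <;> simp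

/-- The degrees of the members of the block. -/
theorem degree_bound (hM : Cfsg.IsPModular 2 M) (hS : Stable P σ τ m θ)
    (hB : Cfsg.IsMaximalBrauerPair 2 M B (P : Subgroup G) (blkLam hS M (P : Subgroup G)))
    (hsimp : IsSimpleGroup G) {y : G} (hy : ∀ v ∈ (P : Subgroup G), Commute v y)
    (hyo : ¬ 2 ∣ orderOf y) (hθ : ext θ y ≠ 1) {χ : Cfsg.IrrCharacter G} (hχ : χ ∈ B)
    {T R d : ℤ} (hT : (χ : G → ℂ) (σ ^ m) = (T : ℂ))
    (hR : ∑ l ∈ Finset.Ioo 0 (2 * m), (χ : G → ℂ) (σ ^ l) = (R : ℂ))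
    (hd : (χ : G → ℂ) 1 = (d : ℂ)) :
    4 * (m : ℤ) ≤ d ∧ 4 * (m : ℤ) + 2 * (m : ℤ) * T - R ≤ d := by
  have h := hS.dih
  have hm := h.pos
  haveI := Fintype.ofFinite (P : Subgroup G)
  set A := Subgroup.zpowers y
  have hyt : Commute y (σ ^ m) := (hy _ (pow_mem h.σ_mem m)).symm
  have hAC : A ≤ Subgroup.centralizer ({σ ^ m} : Set G) := Subgroup.zpowers_le.2 (mem_cent.2 hyt)
  have hcomm : ∀ a ∈ A, ∀ v ∈ (P : Subgroup G), Commute a v := fun a ha v hv => by
    obtain ⟨k, rfl⟩ := Subgroup.mem_zpowers_iff.1 ha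
    exact ((hy v hv).zpow_right k).symm
  set ν : A →* ℂˣ := θ.comp (Subgroup.inclusion hAC)
  have hν : ∀ a : A, ν a = ext θ (a : G) := fun a => by
    rw [ext_of_mem θ (hAC a.2)]; rfl
  have hval : ∀ a : A, ∀ v ∈ (P : Subgroup G), v ≠ 1 →
      (χ : G → ℂ) ((a : G) * v) = (ν a : ℂ) * (χ : G → ℂ) v := fun a v hv hv1 => by
    rw [(hcomm a a.2 v hv).eq, hν]
    refine value_sylow hM hS hB hχ hv hv1 (hcomm a a.2 v hv).symm (mem_cent.1 (hAC a.2)) fun hd => hyo ?_
    obtain ⟨k, hk⟩ := Subgroup.mem_zpowers_iff.1 a.2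
    exact hd.trans (by
      rw [← hk]
      exact orderOf_dvd_of_mem_zpowers (Subgroup.zpow_mem _ (Subgroup.mem_zpowers y) k))
  have hne : ∃ a : A, (χ : G → ℂ) a ≠ (ν a : ℂ) * (χ : G → ℂ) 1 := by
    refine ⟨⟨y, Subgroup.mem_zpowers y⟩, fun e => ?_⟩
    rw [hν] at e
    by_cases h1 : χ = trivIrr G
    · subst h1
      simp only [trivIrr_coe, mul_one] at e
      exact hθ (Units.ext e.symm)
    · have hnorm : ‖(ext θ y : ℂ)‖ = 1 := by
        rw [ext_of_mem θ (mem_cent.2 hyt)]; exact linear_norm_eq_one θ _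
      have := eq_one_of_scalar hsimp ⟨τ, σ, fun e' => h.τ_notMem (by
        have e2 : σ = σ⁻¹ := by rw [← h.rel, e', mul_inv_cancel_right]
        have h2 := h.order_σ
        have hσ2 : σ ^ 2 = 1 := by
          rw [pow_two]; nth_rewrite 2 [e2]; exact mul_inv_cancel σ
        have := Nat.le_of_dvd two_pos (orderOf_dvd_of_pow_eq_one hσ2)
        have := h.two_le
        omega)⟩ χ h1 hnorm e
      exact hθ (by
        rw [show y = 1 from this, ext_of_mem θ (one_mem _)]
        exact θ.map_one)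
  obtain ⟨η, hη⟩ := exists_signChar h
  obtain ⟨n, hn⟩ := char_one_nat (irr_isCharacter χ)
  have hdn : d = n := by
    rw [hd] at hn; exact_mod_cast hn
  have hsum : ∑ v ∈ (Finset.univ : Finset (P : Subgroup G)).erase 1,
      (χ : G → ℂ) v * conj (η v : ℂ) = ((R - 2 * m * T : ℤ) : ℂ) := by
    rw [← Finset.sum_filter_add_sum_filter_not ((Finset.univ : Finset (P : Subgroup G)).erase 1)
      (fun v : (P : Subgroup G) => (v : G) ∈ Subgroup.zpowers σ)]
    set S1 := ((Finset.univ : Finset (P : Subgroup G)).erase 1).filter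
      (fun v : (P : Subgroup G) => (v : G) ∈ Subgroup.zpowers σ)
    set S2 := ((Finset.univ : Finset (P : Subgroup G)).erase 1).filter
      (fun v : (P : Subgroup G) => (v : G) ∉ Subgroup.zpowers σ)
    have hbij : ∑ v ∈ S1, (χ : G → ℂ) v = ∑ l ∈ Finset.Ioo 0 (2 * m), (χ : G → ℂ) (σ ^ l) ∧
        S1.card = 2 * m - 1 := by
      have hmem : ∀ l ∈ Finset.Ioo 0 (2 * m),
          (⟨σ ^ l, pow_mem h.σ_mem l⟩ : (P : Subgroup G)) ∈ S1 := fun l hl => by
        obtain ⟨h1, h2⟩ := Finset.mem_Ioo.1 hl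
        refine Finset.mem_filter.2 ⟨Finset.mem_erase.2 ⟨fun e => ?_, Finset.mem_univ _⟩,
          pow_mem (Subgroup.mem_zpowers σ) l⟩
        have := h.pow_inj h2 (by omega) ((congrArg Subtype.val e).trans (pow_zero σ).symm)
        omega
      have hsurj : ∀ v ∈ S1, ∃ l, ∃ hl : l ∈ Finset.Ioo 0 (2 * m),
          (⟨σ ^ l, pow_mem h.σ_mem l⟩ : (P : Subgroup G)) = v := fun v hv => by
        obtain ⟨hv1, hv2⟩ := Finset.mem_filter.1 hv
        obtain ⟨i, hi⟩ := mem_powers_iff_mem_zpowers.2 hv2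
        refine ⟨i % (2 * m), Finset.mem_Ioo.2 ⟨Nat.pos_of_ne_zero fun e => ?_,
          Nat.mod_lt _ (by omega)⟩, Subtype.ext ((h.pow_mod i).trans hi)⟩
        refine Finset.ne_of_mem_erase hv1 (Subtype.ext ?_)
        show (v : G) = 1
        rw [← hi]
        show σ ^ i = 1
        rw [← h.pow_mod, e, pow_zero]
      have hinj : ∀ a, a ∈ Finset.Ioo 0 (2 * m) → ∀ b, b ∈ Finset.Ioo 0 (2 * m) →
          (⟨σ ^ a, pow_mem h.σ_mem a⟩ : (P : Subgroup G)) = ⟨σ ^ b, pow_mem h.σ_mem b⟩ → a = b :=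
        fun a ha b hb e => h.pow_inj (Finset.mem_Ioo.1 ha).2 (Finset.mem_Ioo.1 hb).2
          (congrArg Subtype.val e)
      refine ⟨(Finset.sum_bij (fun l _ => (⟨σ ^ l, pow_mem h.σ_mem l⟩ : (P : Subgroup G))) hmem hinj
        hsurj fun l _ => rfl).symm, ?_⟩
      rw [← Finset.card_bij (fun l _ => (⟨σ ^ l, pow_mem h.σ_mem l⟩ : (P : Subgroup G))) hmem hinj
        hsurj, Nat.card_Ioo]
      omega
    have hS2 : S2.card = 2 * m := by
      have h1 : S1.card + S2.card = ((Finset.univ : Finset (P : Subgroup G)).erase 1).card :=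
        Finset.card_filter_add_card_filter_not _
      have h3 : ((Finset.univ : Finset (P : Subgroup G)).erase 1).card = 4 * m - 1 := by
        rw [Finset.card_erase_of_mem (Finset.mem_univ _), Finset.card_univ,
          ← Nat.card_eq_fintype_card, h.card_sylow]
      rw [h3] at h1
      have := hbij.2
      omega
    rw [Finset.sum_congr rfl (g := fun v : (P : Subgroup G) => (χ : G → ℂ) v) fun v hv => by
        rw [hη, if_pos (Finset.mem_filter.1 hv).2, map_one, mul_one],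
      hbij.1, hR, Finset.sum_congr rfl (g := fun _ => -(T : ℂ)) fun v hv => ?_, Finset.sum_const,
      hS2, nsmul_eq_mul]
    · push_cast; ring
    · have hv' := (Finset.mem_filter.1 hv).2
      rw [hη, if_neg hv', map_neg, map_one, mul_neg, mul_one]
      obtain ⟨i, hi | hi⟩ := h.cases _ v.2
      · exact absurd (DihSylow.mem_of_pow i hi) hv'
      obtain ⟨g, hg⟩ := isConj_iff.1 (hS.one_class _ _ (h.orderOf_refl i) h.orderOf_J)
      rw [hi, ← irr_isClassFunction χ (σ ^ i * τ) g, hg, hT]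
  have key := mult_bound (P : Subgroup G) A hcomm (irr_isCharacter χ) ν hval hne η hsum hn
  rw [h.card_sylow] at key
  push_cast at key
  constructor <;> linarith [key.1, key.2]

/-- A stable linear character is trivial on the odd elements centralizing the Sylow subgroup. -/
theorem false_of_stable (hS : Stable P σ τ m θ) (hsimp : IsSimpleGroup G) {y : G}
    (hy : ∀ v ∈ (P : Subgroup G), Commute v y) (hyo : ¬ 2 ∣ orderOf y) (hθ : ext θ y ≠ 1) :
    False := by
  haveI := hsimp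
  obtain ⟨M, hM⟩ := Perm.UniqueP.exists_modular Nat.prime_two
  have h := hS.dih
  have hm := h.pos
  have hm2 := h.two_le
  obtain ⟨ζ, hζ⟩ : ∃ ζ : ℂ, IsPrimitiveRoot ζ (2 * m) :=
    ⟨_, Complex.isPrimitiveRoot_exp (2 * m) (by omega)⟩
  have hτ2 : orderOf τ = 2 := by
    have := h.orderOf_refl 0; rwa [pow_zero, one_mul] at this
  have hστ2 : orderOf (σ * τ) = 2 := by
    have := h.orderOf_refl 1; rwa [pow_one] at this
  have hc1 := hS.one_class _ _ h.orderOf_J hτ2
  have hc2 := hS.one_class _ _ h.orderOf_J hστ2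
  obtain ⟨c1, c2, c3, d1, d2, d3, X, T⟩ := exists_principal h hM hζ
  obtain ⟨B, hB⟩ := exists_theBlock hM hS
  obtain ⟨f, e, x, L, hx, htv, hrv⟩ := exists_lat hM hS hζ T
  have hJ : σ ^ m ∈ Subgroup.zpowers σ := pow_mem (Subgroup.mem_zpowers σ) m
  have hmem : ∀ χ : Cfsg.IrrCharacter G, tVal f e m χ ≠ 0 → χ ∈ B := fun χ h0 =>
    mem_of_coef_ne_zero hM hS hB (by
      rw [← avgReg_J h, htv]
      exact_mod_cast h0)
  have hatJ : ∀ χ : Cfsg.IrrCharacter G, tVal f e m χ ≠ 0 →
      (χ : G → ℂ) (σ ^ m) = (tVal f e m χ : ℂ) := fun χ h0 => by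
    rw [← avgReg_of_mem hM hS hB (hmem χ h0) hJ h.J_ne_one, htv]
  have hb : ∀ χ, tVal f e m χ ≠ 0 → 4 * (m : ℤ) ≤ x χ ∧
      4 * (m : ℤ) + 2 * (m : ℤ) * tVal f e m χ - rVal f e m χ ≤ x χ := fun χ h0 =>
    degree_bound hM hS hB hsimp hy hyo hθ (hmem χ h0) (hatJ χ h0) (by
      rw [← hrv]
      refine Finset.sum_congr rfl fun l hl => ?_
      obtain ⟨h1, h2⟩ := Finset.mem_Ioo.1 hl
      refine (avgReg_of_mem hM hS hB (hmem χ h0) (pow_mem (Subgroup.mem_zpowers σ) l) fun e' => ?_).symm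
      have := h.pow_inj h2 (by omega) (e'.trans (pow_zero σ).symm)
      omega) (hx χ)
  have hW := L.sum_le hb
  -- the identity
  have hone : ∀ u v : G, orderOf u = 2 → orderOf v = 2 → IsConj u v := hS.one_class
  have hid := BlockIdentity.identity (O := regKer h) h.orderOf_J hone (odd_regKer h)
    ⟨fun z => (θ z : ℂ), isIrrCharacter_linear θ⟩
    (isIrrCharacter_linear (θ.comp (regKer h).subtype))
  have hlhs : ∑ χ : Cfsg.IrrCharacter G, (χ : G → ℂ) (σ ^ m) ^ 2 / (χ : G → ℂ) 1 *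
      BlockIdentity.coef (regKer h) (χ : G → ℂ) (fun z => (θ z : ℂ)) =
      (((∑ χ, (tVal f e m χ : ℝ) ^ 3 / (x χ : ℝ)) : ℝ) : ℂ) := by
    push_cast
    refine Finset.sum_congr rfl fun χ _ => ?_
    rw [← avgReg_J h, htv, hx]
    by_cases h0 : tVal f e m χ = 0
    · simp [h0]
    · rw [hatJ χ h0]; ring
  have hrhs : (Nat.card (Subgroup.centralizer ({σ ^ m} : Set G)) : ℂ) ^ 2 / (Nat.card G : ℂ) *
      (∑ w : Subgroup.centralizer ({σ ^ m} : Set G), if orderOf w = 2 ∧ (w : G) ≠ σ ^ m then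
        (θ w : ℂ) ^ 2 / ((Nat.card (regKer h ⊓ Subgroup.centralizer ({w} : Set _) :
          Subgroup (Subgroup.centralizer ({σ ^ m} : Set G))) : ℂ) * (θ 1 : ℂ)) else 0) =
      ((((Nat.card (Subgroup.centralizer ({σ ^ m} : Set G)) : ℝ) ^ 2 / (Nat.card G : ℝ) *
        invSum h : ℝ)) : ℂ) := by
    simp only [invSum]
    push_cast
    congr 1
    refine Finset.sum_congr rfl fun w _ => ?_
    split_ifs with hw
    · rw [hS.apply_two ⟨1, by rw [hw.1, pow_one]⟩, map_one, Units.val_one, one_pow, mul_one]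
      push_cast; ring
    · simp
  rw [hlhs] at hid
  have hWeq : ∑ χ, (tVal f e m χ : ℝ) ^ 3 / (x χ : ℝ) =
      (Nat.card (Subgroup.centralizer ({σ ^ m} : Set G)) : ℝ) ^ 2 / (Nat.card G : ℝ) * invSum h :=
    Complex.ofReal_injective (hid.trans hrhs)
  -- the first exceptional character
  obtain ⟨n1, -, hn1⟩ := irr_one_pos c1.2
  have h8 : 8 * m ≤ n1 := by
    by_contra hlt
    have h1 := S3287Four.eq_one_of_small h hM hζ hc1 hc2 T (P : Subgroup G) le_rfl
      (fun d hd => by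
        rw [h.card_sylow]
        have : d = n1 := by rw [hn1] at hd; exact_mod_cast hd.symm
        omega) hyo hy
    exact hθ (by rw [h1, ext_of_mem θ (one_mem _)]; exact θ.map_one)
  obtain ⟨nX, -, hnX⟩ := irr_one_pos (X 1).2
  have hof := order_formula h hM hζ hc1 hc2 T
  simp only at hof
  have hreg1 := (T.reg 1 (by simp)).2 1 one_pos (by omega)
  rw [hn1, hnX] at hof hreg1
  set c : ℝ := (Nat.card (Subgroup.centralizer ({σ ^ m} : Set G)) : ℝ)
  set g : ℝ := (Nat.card G : ℝ)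
  set N : ℝ := c / (Nat.card (Subgroup.centralizer ({σ ^ m, τ} : Set G)) : ℝ) +
    c / (Nat.card (Subgroup.centralizer ({σ ^ m, σ * τ} : Set G)) : ℝ) with hN
  have hd1 : (d1 : ℝ) * d1 = 1 := by exact_mod_cast T.sq1
  set a : ℝ := (d1 : ℝ) * n1 with ha
  have hofR : g / c * (-1 - (d1 : ℝ) / n1 + 4 * d1 / nX) = -2 * N ^ 2 := by
    apply Complex.ofReal_injective
    simp only [hN]
    push_cast
    exact hof
  have hregR : (d1 : ℝ) * nX = 1 + a := by
    apply Complex.ofReal_injective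
    simp only [ha]
    push_cast
    exact hreg1
  have habs : 16 ≤ |a| := by
    have hdd : |(d1 : ℝ)| = 1 := by
      rcases mul_self_eq_one_iff.1 hd1 with h' | h' <;> rw [h'] <;> norm_num
    rw [ha, abs_mul, hdd, one_mul, Nat.abs_cast]
    have : 16 ≤ n1 := by omega
    exact_mod_cast this
  have hinv : ∀ z : ℝ, (d1 : ℝ) / z = 1 / ((d1 : ℝ) * z) := fun z => by
    rcases mul_self_eq_one_iff.1 hd1 with h' | h' <;> rw [h'] <;> ring
  set Fv : ℝ := 1 + 1 / a - 4 / (1 + a) with hFv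
  have hF := first_ge habs hFv
  have hofF : g / c * Fv = 2 * N ^ 2 := by
    have e1 : -1 - (d1 : ℝ) / n1 + 4 * d1 / nX = -Fv := by
      rw [mul_div_assoc, hinv, hinv, hregR, hFv, ha]; ring
    rw [e1] at hofR
    linarith
  have hg0 : 0 < g := Nat.cast_pos.2 Nat.card_pos
  have hc0 : 0 < c := Nat.cast_pos.2 Nat.card_pos
  have hge : Fv ≤ c ^ 2 / g * invSum h := by
    have h1 := invSum_ge h
    have e1 : Fv = c / g * (2 * N ^ 2) := by rw [← hofF]; field_simp
    have e2 : c ^ 2 / g * invSum h = c / g * (c * invSum h) := by ring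
    rw [e1, e2]
    exact mul_le_mul_of_nonneg_left h1 (by positivity)
  rw [hWeq] at hW
  linarith

end Cfsg.Agent.GW.StableLinear
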