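import Mathlib
import Cfsg.Agent.Lib.GW.StableLinear.Main
import Cfsg.Agent.Lib.GW.BenderPure
import Cfsg.Agent.Lib.GW.BenderKleinStable
import Cfsg.Agent.Lib.GW.KleinComplement

/-!
# Central classes: no fixed linear character

If for every reflection some three-cycle centralizes its fixed points in the core, the core has no
nontrivial linear character fixed by the Sylow subgroup, of order at least `8`.
-/

set_option autoImplicit false
set_option linter.style.haveILetI false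
set_option linter.unusedSectionVars false

namespace Cfsg.Agent.GW.Bender

open Subgroup Cfsg.Agent.Involutions Cfsg.Agent.CharTheory.DihedralPrincipal

universe u

variable {G : Type u} [Group G] [Finite G]

namespace Data

variable (d : Data G)

include d in
theorem one_class (v w : G) (hv : orderOf v = 2) (hw : orderOf w = 2) : IsConj v w := by
  suffices key : ∀ x : G, orderOf x = 2 → IsConj d.t x from (key v hv).symm.trans (key w hw)
  intro x hx
  obtain ⟨g, hg⟩ := DihedralSylow.exists_conj_mem d.S x ⟨1, by rw [hx, pow_one]⟩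
  have ho : orderOf (g * x * g⁻¹) = 2 := by rw [Involutions.Basic.orderOf_conj, hx]
  have hsq : g * x * g⁻¹ * (g * x * g⁻¹) = 1 := by rw [← sq, ← ho, pow_orderOf_eq_one]
  refine IsConj.trans ?_ (isConj_iff.2 ⟨g, rfl⟩ : IsConj x (g * x * g⁻¹)).symm
  rcases DihedralSylow.exists_mem_four d.S d.e d.dvd d.ne_zero hg hsq with h | h | ⟨i, hi⟩
  · rw [h, orderOf_one] at ho; omega
  · rw [h]
  · obtain ⟨r, hr, -⟩ := d.rho i
    rw [hi]
    exact isConj_iff.2 ⟨r, hr⟩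

/-- The Sylow subgroup with a rotation and a reflection. -/
theorem exists_dihSylow (h4 : 4 ≤ d.m) : ∃ (σ τ : G) (k : ℕ),
    DihSylow d.S σ τ k ∧ σ ^ k = d.t := by
  haveI : Fact (Nat.Prime 2) := ⟨Nat.prime_two⟩
  haveI : NeZero d.m := ⟨d.ne_zero⟩
  obtain ⟨n, hn⟩ := IsPGroup.iff_card.1 d.S.2
  rw [Nat.card_congr d.e.toEquiv, DihedralGroup.nat_card] at hn
  obtain ⟨j, hj⟩ : ∃ j, d.m = 2 ^ j := by
    obtain ⟨j, -, hj⟩ := (Nat.dvd_prime_pow Nat.prime_two).1 (Dvd.intro_left 2 hn)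
    exact ⟨j, hj⟩
  obtain ⟨i, rfl⟩ : ∃ i, j = i + 1 := ⟨j - 1, by
    rcases j with _ | j
    · rw [pow_zero] at hj; omega
    · omega⟩
  set σ' : (d.S : Subgroup G) := d.e.symm (DihedralGroup.r 1)
  set τ' : (d.S : Subgroup G) := d.e.symm (DihedralGroup.sr 0)
  have hσo : orderOf (σ' : G) = 2 * 2 ^ i := by
    rw [Subgroup.orderOf_coe, MulEquiv.orderOf_eq, DihedralGroup.orderOf_r_one, hj, pow_succ']
  have hrel : (τ' : G) * σ' * (τ' : G)⁻¹ = (σ' : G)⁻¹ := by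
    have : τ' * σ' * τ'⁻¹ = σ'⁻¹ := by
      apply d.e.injective
      simp [σ', τ']
    exact congrArg Subtype.val this
  have hτ2 : (τ' : G) * τ' = 1 := by
    have : τ' * τ' = 1 := by
      apply d.e.injective
      simp [τ']
    exact congrArg Subtype.val this
  have hi : 2 ≤ 2 ^ i := by
    have := hj ▸ h4
    rw [pow_succ] at this
    omega
  have hn := τ_notMem_of_rel hi hσo hrel
  refine ⟨σ', τ', 2 ^ i, ⟨σ'.2, τ'.2, hσo, hτ2, hrel, hn, ?_, ⟨i, rfl⟩,
    exists_cases_of_card σ'.2 τ'.2 hσo hn ?_⟩, ?_⟩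
  · refine dvd_pow_self 2 fun h0 => ?_
    rw [h0, pow_zero] at hi; omega
  · rw [Nat.card_congr d.e.toEquiv, DihedralGroup.nat_card, hj, pow_succ]; ring
  · rw [← Subgroup.coe_pow, ← map_pow, DihedralGroup.r_one_pow]
    show ((d.e.symm (DihedralGroup.r ((2 ^ i : ℕ) : ZMod d.m)) : (d.S : Subgroup G)) : G) = d.t
    have e : ((2 ^ i : ℕ) : ZMod d.m) = DihedralEmbedding.half d.m := by
      unfold DihedralEmbedding.half
      congr 1
      rw [hj, pow_succ, Nat.mul_div_cancel _ two_pos]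
    rw [e]
    rfl

/-- No fixed linear character when every class is central. -/
theorem noFixedLinear_of_central [IsSimpleGroup G] (h4 : 4 ≤ d.m) (hc : ∀ i, d.Central i) :
    d.NoFixedLinear := by
  classical
  haveI : Fact (Nat.Prime 2) := ⟨Nat.prime_two⟩
  letI := Fintype.ofFinite G
  letI := Fintype.ofFinite (Cfsg.IrrCharacter G)
  haveI : (Cfsg.oddCore d.H).Normal := Cores.pPrimeCore_normal 2
  show d.O ≤ _
  set K := ⁅d.O, d.O⁆ ⊔ ⁅d.O, (d.S : Subgroup G)⁆ with hK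
  by_contra hnot
  have hSn : ∀ s ∈ (d.S : Subgroup G), ∀ o ∈ d.O, s * o * s⁻¹ ∈ d.O := fun s hs o ho =>
    (mem_normalizer_iff.1 (d.H_le_normalizer_O (d.S_le hs)) o).1 ho
  have hKO : K ≤ d.O := sup_le (commutator_le.2 fun x hx y hy => by
      rw [commutatorElement_def]
      exact mul_mem (mul_mem (mul_mem hx hy) (inv_mem hx)) (inv_mem hy))
    (commutator_le.2 fun x hx s hs => by
      rw [commutatorElement_def, show x * s * x⁻¹ * s⁻¹ = x * (s * x⁻¹ * s⁻¹) by group]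
      exact mul_mem hx (hSn s hs _ (inv_mem hx)))
  haveI hKn : (K.subgroupOf d.O).Normal := ⟨fun k hk x => by
    have h1 : (x : G) * k * (x : G)⁻¹ * (k : G)⁻¹ ∈ K := by
      rw [← commutatorElement_def]
      exact mem_sup_left (commutator_mem_commutator x.2 k.2)
    show (x : G) * k * (x : G)⁻¹ ∈ K
    have h2 := mul_mem h1 (show (k : G) ∈ K from hk)
    rwa [inv_mul_cancel_right] at h2⟩
  haveI : Nontrivial (d.O ⧸ K.subgroupOf d.O) := by
    obtain ⟨x, hxO, hxK⟩ := Set.not_subset.1 hnot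
    exact ⟨⟨QuotientGroup.mk (⟨x, hxO⟩ : d.O), 1, fun he =>
      hxK ((QuotientGroup.eq_one_iff (N := K.subgroupOf d.O) (⟨x, hxO⟩ : d.O)).1 he)⟩⟩
  obtain ⟨μ, hμ⟩ := GW.Separation.exists_linear_ne_one (Q := d.O ⧸ K.subgroupOf d.O)
    (d.O_odd.of_dvd_nat (Subgroup.card_quotient_dvd_card _))
  -- the character of the centralizer
  choose o ho s hs hos using fun x : d.H => d.exists_mul x.2
  have huniq : ∀ (x : d.H) (o' s' : G), o' ∈ d.O → s' ∈ (d.S : Subgroup G) → (x : G) = o' * s' →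
      o x = o' := fun x o' s' ho' hs' he => by
    have e : o'⁻¹ * o x = s' * (s x)⁻¹ := by
      rw [eq_mul_inv_iff_mul_eq, mul_assoc, ← hos x, he, inv_mul_cancel_left]
    have h1 : Odd (orderOf (o'⁻¹ * o x)) := d.orderOf_odd (mul_mem (inv_mem ho') (ho x))
    obtain ⟨k, hk⟩ := IsPGroup.iff_orderOf.1 d.S.2 ⟨_, mul_mem hs' (inv_mem (hs x))⟩
    rw [Subgroup.orderOf_mk, ← e] at hk
    exact (inv_mul_eq_one.1 (orderOf_eq_one_iff.1 (Nat.eq_one_of_dvd_coprimes
      ((Nat.coprime_two_right.2 h1).pow_right k) dvd_rfl (dvd_of_eq hk)))).symm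
  let F : d.H →* d.O ⧸ K.subgroupOf d.O := MonoidHom.mk' (fun x => QuotientGroup.mk ⟨o x, ho x⟩)
    fun x y => by
      have hxy : o (x * y) = o x * (s x * o y * (s x)⁻¹) :=
        huniq _ _ (s x * s y) (mul_mem (ho x) (hSn _ (hs x) _ (ho y))) (mul_mem (hs x) (hs y))
          (by rw [Subgroup.coe_mul, hos x, hos y]; group)
      rw [← QuotientGroup.mk_mul]
      refine QuotientGroup.eq.2 ?_
      show ((o (x * y))⁻¹ * (o x * o y) : G) ∈ K
      rw [hxy, show (o x * (s x * o y * (s x)⁻¹))⁻¹ * (o x * o y) =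
        s x * (o y)⁻¹ * (s x)⁻¹ * o y by group]
      have h1 : o y * s x * (o y)⁻¹ * (s x)⁻¹ ∈ K := by
        rw [← commutatorElement_def]
        exact mem_sup_right (commutator_mem_commutator (ho y) (hs x))
      have h2 := (hKn.conj_mem ⟨_, hKO h1⟩ h1 (⟨o y, ho y⟩ : d.O)⁻¹ :)
      have h3 : (o y)⁻¹ * (o y * s x * (o y)⁻¹ * (s x)⁻¹) * ((o y)⁻¹)⁻¹ ∈ K := h2
      rwa [show (o y)⁻¹ * (o y * s x * (o y)⁻¹ * (s x)⁻¹) * ((o y)⁻¹)⁻¹ =
        s x * (o y)⁻¹ * (s x)⁻¹ * o y by group] at h3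
  let θ : d.H →* ℂˣ := μ.comp F
  have hθS : ∀ x : d.H, (x : G) ∈ (d.S : Subgroup G) → θ x = 1 := fun x hx => by
    show μ (QuotientGroup.mk (⟨o x, ho x⟩ : d.O)) = 1
    have : o x = 1 := huniq x 1 x (one_mem _) hx (one_mul _).symm
    rw [show (⟨o x, ho x⟩ : d.O) = 1 from Subtype.ext this, QuotientGroup.mk_one, map_one]
  have hconj : ∀ e x : d.H, θ (e * x * e⁻¹) = θ x := fun e x => by
    rw [map_mul, map_mul, map_inv, mul_right_comm, mul_inv_cancel, one_mul]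
  have hθ2 : ∀ x : d.H, (∃ k : ℕ, orderOf x = 2 ^ k) → θ x = 1 := fun x hx => by
    obtain ⟨Q, hQ⟩ := (Blocks.zpowers_isPGroup hx).exists_le_sylow
    obtain ⟨e, he⟩ := MulAction.exists_smul_eq d.H Q (d.S.subtype d.S_le)
    have hmem : e * x * e⁻¹ ∈ d.S.subtype d.S_le := by
      rw [← he, ← SetLike.mem_coe, Sylow.coe_smul]
      exact ⟨x, hQ (Subgroup.mem_zpowers x), rfl⟩
    rw [← hconj e x]
    exact hθS _ hmem
  obtain ⟨σ, τ, k, hD, hJ⟩ := d.exists_dihSylow h4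
  have hle : centralizer ({σ ^ k} : Set G) ≤ d.H := le_of_eq (by rw [hJ])
  set θ' : centralizer ({σ ^ k} : Set G) →* ℂˣ := θ.comp (Subgroup.inclusion hle) with hθ'
  have hext : ∀ (x : G) (hx : x ∈ d.H), StableLinear.ext θ' x = θ ⟨x, hx⟩ := fun x hx => by
    have hxC : x ∈ centralizer ({σ ^ k} : Set G) := by rw [hJ]; exact hx
    rw [StableLinear.ext_of_mem θ' hxC]
    rfl
  have hS : StableLinear.Stable d.S σ τ k θ' := by
    refine ⟨hD, d.one_class, fun x hx => by rw [hext x (d.S_le hx)]; exact hθS _ hx, ?_⟩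
    intro u hu hut c hct hcu h hh
    rw [hJ] at hut hct hh
    have hcH : c ∈ d.H := mem_centralizer_singleton_iff.2 hct
    have hch : h * c * h⁻¹ ∈ d.H := StableLinear.conj_mem hh hcu
    rw [hext _ hch, hext _ hcH]
    by_cases hu' : u = d.t
    · subst hu'
      have hh' : h ∈ d.H := mem_centralizer_singleton_iff.2 (mul_inv_eq_iff_eq_mul.1 hh)
      rw [show (⟨h * c * h⁻¹, hch⟩ : d.H) = ⟨h, hh'⟩ * ⟨c, hcH⟩ * ⟨h, hh'⟩⁻¹ from Subtype.ext rfl,
        hconj]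
    -- move `u` into the Sylow subgroup
    have huH : u ∈ d.H := mem_centralizer_singleton_iff.2 hut
    obtain ⟨Q, hQ⟩ := (Blocks.zpowers_isPGroup (x := (⟨u, huH⟩ : d.H)) (p := 2)
      ⟨1, by rw [Subgroup.orderOf_mk, hu, pow_one]⟩).exists_le_sylow
    obtain ⟨e, he⟩ := MulAction.exists_smul_eq d.H Q (d.S.subtype d.S_le)
    have hmem : (e : G) * u * (e : G)⁻¹ ∈ (d.S : Subgroup G) := by
      show e * ⟨u, huH⟩ * e⁻¹ ∈ d.S.subtype d.S_le
      rw [← he, ← SetLike.mem_coe, Sylow.coe_smul]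
      exact ⟨_, hQ (Subgroup.mem_zpowers _), rfl⟩
    have hou : orderOf ((e : G) * u * (e : G)⁻¹) = 2 := by rw [Involutions.Basic.orderOf_conj, hu]
    obtain ⟨i, hi⟩ : ∃ i, (e : G) * u * (e : G)⁻¹ = d.u i := by
      rcases DihedralSylow.exists_mem_four d.S d.e d.dvd d.ne_zero hmem
        (by rw [← sq, ← hou, pow_orderOf_eq_one]) with h' | h' | h'
      · rw [h', orderOf_one] at hou; omega
      · refine absurd ?_ hu'
        calc u = (e : G)⁻¹ * ((e : G) * u * (e : G)⁻¹) * ((e : G)⁻¹)⁻¹ := by group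
          _ = (e : G)⁻¹ * d.t * ((e : G)⁻¹)⁻¹ := by rw [show (e : G) * u * (e : G)⁻¹ = d.t from h']
          _ = d.t := d.conj_t (inv_mem e.2)
      · exact h'
    obtain ⟨g, hg1, hg2, hgA⟩ := hc i
    set c' : G := (e : G) * c * (e : G)⁻¹ with hc'
    have hc'H : c' ∈ d.H := mul_mem (mul_mem e.2 hcH) (inv_mem e.2)
    have hc'u : Commute c' (d.u i) := hi ▸ StableLinear.commute_conj hcu (e : G)
    have hk : h * (e : G)⁻¹ * g ∈ d.H := by
      refine mem_centralizer_singleton_iff.2 (mul_inv_eq_iff_eq_mul.1 ?_)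
      calc h * (e : G)⁻¹ * g * d.t * (h * (e : G)⁻¹ * g)⁻¹ =
          h * (e : G)⁻¹ * (g * d.t * g⁻¹) * ((e : G) * h⁻¹) := by group
        _ = h * u * h⁻¹ := by rw [hg1, ← hi]; group
        _ = d.t := hh
    have hgc : ∀ x : G, Commute x (d.u i) → g⁻¹ * x * g ∈ d.H := fun x hx => by
      have := StableLinear.commute_conj hx g⁻¹
      rw [inv_inv, ← hg1, show g⁻¹ * (g * d.t * g⁻¹) * g = d.t by group] at this
      exact mem_centralizer_singleton_iff.2 this
    have hval : θ ⟨h * c * h⁻¹, hch⟩ = θ ⟨g⁻¹ * c' * g, hgc c' hc'u⟩ := by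
      rw [show (⟨h * c * h⁻¹, hch⟩ : d.H) = ⟨_, hk⟩ * ⟨g⁻¹ * c' * g, hgc c' hc'u⟩ * ⟨_, hk⟩⁻¹ from
        Subtype.ext (by simp [hc']; group), hconj]
    have hcc : θ ⟨c, hcH⟩ = θ ⟨c', hc'H⟩ := (hconj e ⟨c, hcH⟩).symm
    rw [hval, hcc]
    -- the odd part is centralized by the three-cycle
    obtain ⟨x, hx⟩ := Blocks.exists_ppart Nat.prime_two c'
    obtain ⟨a, hxa, hxc, hxo, hao⟩ := id hx
    obtain ⟨nx, hnx⟩ : ∃ nx : ℕ, c' ^ nx = x := by
      obtain ⟨kx, hkx⟩ := hxo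
      obtain ⟨r, hr⟩ := exists_pow_eq_self_of_coprime (x := x) (n := orderOf a)
        (by rw [hkx]; exact ((Nat.prime_two.coprime_iff_not_dvd.2 hao).pow_left kx).symm)
      refine ⟨orderOf a * r, ?_⟩
      rw [pow_mul, ← hxa, hxc.mul_pow, pow_orderOf_eq_one, mul_one, hr]
    have hxH : x ∈ d.H := hnx ▸ pow_mem hc'H nx
    have hxu : Commute x (d.u i) := hnx ▸ hc'u.pow_left nx
    have hae : a = x⁻¹ * c' := by rw [← hxa, inv_mul_cancel_left]
    have haH : a ∈ d.H := hae ▸ mul_mem (inv_mem hxH) hc'H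
    have hau : Commute a (d.u i) := hae ▸ (hxu.inv_left).mul_left hc'u
    have haA : a ∈ d.A i := ⟨d.mem_O_of_odd haH (by
      rwa [← Nat.not_even_iff_odd, even_iff_two_dvd]), mem_centralizer_singleton_iff.2 hau⟩
    have hga : g⁻¹ * a * g = a := by rw [mul_assoc, ← hgA a haA, inv_mul_cancel_left]
    have h2x : ∀ (y : G) (hy : y ∈ d.H), (∃ n : ℕ, orderOf y = 2 ^ n) → θ ⟨y, hy⟩ = 1 :=
      fun y hy hn => hθ2 _ (by rwa [Subgroup.orderOf_mk])
    rw [show (⟨c', hc'H⟩ : d.H) = ⟨x, hxH⟩ * ⟨a, haH⟩ from Subtype.ext hxa.symm,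
      show (⟨g⁻¹ * c' * g, hgc c' hc'u⟩ : d.H) = ⟨g⁻¹ * x * g, hgc x hxu⟩ * ⟨a, haH⟩ from
        Subtype.ext (by
          show g⁻¹ * c' * g = g⁻¹ * x * g * a
          conv_rhs => rw [← hga]
          rw [← hxa]; group),
      map_mul, map_mul, h2x x hxH hxo, h2x _ (hgc x hxu) (by
        rw [show g⁻¹ * x * g = g⁻¹ * x * g⁻¹⁻¹ by group, Involutions.Basic.orderOf_conj]
        exact hxo)]
  -- an element of the core centralizing the Sylow subgroup where the character is nontrivial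
  obtain ⟨q, hq⟩ : ∃ q, μ q ≠ 1 := by
    by_contra hcon
    push Not at hcon
    exact hμ (MonoidHom.ext hcon)
  obtain ⟨x, rfl⟩ := QuotientGroup.mk'_surjective _ q
  have hθO : ∀ (y : G) (hy : y ∈ d.O), θ ⟨y, d.O_le hy⟩ = μ (QuotientGroup.mk (⟨y, hy⟩ : d.O)) :=
    fun y hy => congrArg μ (congrArg QuotientGroup.mk
      (Subtype.ext (huniq ⟨y, d.O_le hy⟩ y 1 hy (one_mem _) (mul_one _).symm)))
  let X := {y : d.O // (QuotientGroup.mk y : d.O ⧸ K.subgroupOf d.O) = QuotientGroup.mk x}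
  have hstab : ∀ v, ∀ hv : v ∈ (d.S : Subgroup G), ∀ y : X,
      (QuotientGroup.mk (⟨v * (y.1 : G) * v⁻¹, hSn v hv _ y.1.2⟩ : d.O) : d.O ⧸ K.subgroupOf d.O) =
        QuotientGroup.mk x := fun v hv y => by
    refine (QuotientGroup.eq.2 ?_).trans y.2
    show (v * (y.1 : G) * v⁻¹)⁻¹ * (y.1 : G) ∈ K
    have h1 : (y.1 : G) * v * (y.1 : G)⁻¹ * v⁻¹ ∈ K := by
      rw [← commutatorElement_def]
      exact mem_sup_right (commutator_mem_commutator y.1.2 hv)
    have h2 := (hKn.conj_mem ⟨_, hKO h1⟩ h1 (y.1 : d.O)⁻¹ :)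
    have h3 : (y.1 : G)⁻¹ * ((y.1 : G) * v * (y.1 : G)⁻¹ * v⁻¹) * ((y.1 : G)⁻¹)⁻¹ ∈ K := h2
    rwa [show (y.1 : G)⁻¹ * ((y.1 : G) * v * (y.1 : G)⁻¹ * v⁻¹) * ((y.1 : G)⁻¹)⁻¹ =
      (v * (y.1 : G) * v⁻¹)⁻¹ * (y.1 : G) by group] at h3
  letI : MulAction (d.S : Subgroup G) X :=
    { smul := fun v y => ⟨⟨(v : G) * (y.1 : G) * (v : G)⁻¹, hSn v v.2 _ y.1.2⟩, hstab v v.2 y⟩
      one_smul := fun y => Subtype.ext (Subtype.ext (by
        show (1 : G) * (y.1 : G) * (1 : G)⁻¹ = _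
        group))
      mul_smul := fun v w y => Subtype.ext (Subtype.ext (by
        show (v : G) * w * (y.1 : G) * ((v : G) * w)⁻¹ =
          (v : G) * ((w : G) * (y.1 : G) * (w : G)⁻¹) * (v : G)⁻¹
        group)) }
  have hX : ¬ 2 ∣ Nat.card X := by
    have e : X ≃ K.subgroupOf d.O :=
      { toFun := fun y => ⟨x⁻¹ * y.1, QuotientGroup.eq.1 y.2.symm⟩
        invFun := fun z => ⟨x * z.1, QuotientGroup.eq.2 (by
          rw [mul_inv_rev, inv_mul_cancel_right]; exact inv_mem z.2)⟩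
        left_inv := fun y => Subtype.ext (mul_inv_cancel_left x y.1)
        right_inv := fun z => Subtype.ext (inv_mul_cancel_left x z.1) }
    rw [Nat.card_congr e, ← even_iff_two_dvd]
    exact Nat.not_even_iff_odd.2 (d.O_odd.of_dvd_nat (Subgroup.card_subgroup_dvd_card _))
  obtain ⟨y, hy⟩ := d.S.2.nonempty_fixed_point_of_prime_not_dvd_card X hX
  refine StableLinear.false_of_stable hS inferInstance (y := (y.1 : G)) (fun v hv => ?_)
    (fun h2 => Nat.not_even_iff_odd.2 (d.orderOf_odd y.1.2) (even_iff_two_dvd.2 h2)) ?_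
  · have := congrArg (fun z : X => ((z.1 : d.O) : G)) (MulAction.mem_fixedPoints.1 hy ⟨v, hv⟩)
    exact mul_inv_eq_iff_eq_mul.1 this
  · rw [hext _ (d.O_le y.1.2), hθO _ y.1.2, show (⟨(y.1 : G), y.1.2⟩ : d.O) = y.1 from rfl, y.2]
    exact hq

/-- The stable case, every order of the Sylow subgroup. -/
theorem noFixedLinear_of_central_all [IsSimpleGroup G] (hG : ¬ IsMulCommutative G)
    (hc : ∀ i, d.Central i) : d.NoFixedLinear := by
  letI := Fintype.ofFinite G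
  rcases eq_or_lt_of_le d.two_le with h | h
  · exact d.noFixedLinear_of_two hG h.symm (hc (0 : ZMod d.m))
  · refine d.noFixedLinear_of_central ?_ hc
    obtain ⟨c, hc'⟩ := d.dvd
    omega

end Data

end Cfsg.Agent.GW.Bender
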