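import Mathlib
import Cfsg.Agent.Lib.GW.StableLinear.Bender
import Cfsg.Agent.Lib.GW.BenderTrivialCores

/-!
# The stable input of the group-theoretic half of the dihedral theorem
-/

set_option autoImplicit false
set_option linter.style.haveILetI false

namespace Cfsg.Agent.GW.Bender

universe u

/-- Central classes exclude fixed linear characters. -/
theorem stableInput : StableInput.{u} := fun _ _ _ _ d _ _ hc =>
  d.toData.noFixedLinear_of_central_all d.not_commutative hc

end Cfsg.Agent.GW.Bender
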